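import Cfsg.Prelude.Def_Spor_J1
import Cfsg.Agent.J1.CM
import Cfsg.Agent.J1.CH

/-! The relators hold in the matrix group. -/

set_option autoImplicit false

namespace J1

open H1.TC Cfsg Cfsg.Spor

/-- entry of a coded matrix -/
def ent (n k : ℕ) : ℕ := Nat.land (Nat.shiftRight n (Nat.mul 4 k)) 15

/-- the coded matrix -/
def toM (n : ℕ) : Matrix (Fin 7) (Fin 7) (ZMod 11) := fun i j => (ent n (7 * i + j) : ZMod 11)

/-- entry of a product -/
def dot (a b i j : ℕ) : ℕ :=
  ent a (7 * i + 0) * ent b (7 * 0 + j) + ent a (7 * i + 1) * ent b (7 * 1 + j) +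
    ent a (7 * i + 2) * ent b (7 * 2 + j) + ent a (7 * i + 3) * ent b (7 * 3 + j) +
    ent a (7 * i + 4) * ent b (7 * 4 + j) + ent a (7 * i + 5) * ent b (7 * 5 + j) +
    ent a (7 * i + 6) * ent b (7 * 6 + j)

/-- `c` codes the product -/
def isProd (a b c : ℕ) : Bool :=
  (List.range 7).all fun i => (List.range 7).all fun j => Nat.beq (dot a b i j % 11) (ent c (7 * i + j))

/-- the code of the product -/
def mulC (a b : ℕ) : ℕ :=
  (List.range 49).foldr (fun k s => s * 16 + dot a b (k / 7) (k % 7) % 11) 0

theorem isProd_sound {a b c : ℕ} (h : isProd a b c = true) : toM a * toM b = toM c := by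
  ext i j
  simp only [isProd, List.all_eq_true, List.mem_range] at h
  have := Nat.eq_of_beq_eq_true (h i i.2 j j.2)
  rw [Matrix.mul_apply, Fin.sum_univ_seven, show toM c i j = (ent c (7 * i + j) : ZMod 11) from rfl,
    ← this, ZMod.natCast_mod, dot]
  push_cast
  rfl

/-- evaluate a word -/
def wk (cd : List ℕ) : List ℕ → ℕ → ℕ → Bool
  | [], acc, e => Nat.beq acc e
  | y :: ys, acc, e => isProd (cd.getD y 6277101736848182401506974708411517874814724153223283736577) acc (mulC (cd.getD y 6277101736848182401506974708411517874814724153223283736577) acc) &&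
      wk cd ys (mulC (cd.getD y 6277101736848182401506974708411517874814724153223283736577) acc) e

theorem wk_sound {gen : ℕ → GL (Fin 7) (ZMod 11)} {cd : List ℕ}
    (h : ∀ y, (gen y).val = toM (cd.getD y 6277101736848182401506974708411517874814724153223283736577)) (l : List ℕ) :
    ∀ acc e g, wk cd l acc e = true → g.val = toM acc → (evL gen l g).val = toM e := by
  induction l with
  | nil => intro acc e g h1 h2; rw [← Nat.eq_of_beq_eq_true h1]; exact h2
  | cons y l ih =>
    intro acc e g h1 h2
    rw [wk, Bool.and_eq_true] at h1
    exact ih _ e (gen y * g) h1.2 (by rw [Units.val_mul, h, h2, isProd_sound h1.1])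

theorem toM_one : (1 : GL (Fin 7) (ZMod 11)).val = toM 6277101736848182401506974708411517874814724153223283736577 := by decide +kernel

/-- the two matrices and their inverses -/
def gXY (y : ℕ) : GL (Fin 7) (ZMod 11) := [1, jankoX, jankoX⁻¹, jankoY, jankoY⁻¹].getD y 1

/-- their codes -/
def cXY : List ℕ := [6277101736848182401506974708411517874814724153223283736577,
  397528445359450111623404940514766352372066718580752,
  392318858553011400094185919275719867175920259576472010752,
  7480991916830962229115210795734213009165743696062808893992,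
  7714795139290337688000179361030555999229046664524010662552]

theorem gXY_val (y : ℕ) : (gXY y).val = toM (cXY.getD y 6277101736848182401506974708411517874814724153223283736577) := by
  match y with
  | 0 => exact toM_one
  | 1 => decide +kernel
  | 2 => decide +kernel
  | 3 => decide +kernel
  | 4 => decide +kernel
  | _ + 5 => exact toM_one

/-- words for the generators -/
def wds : List (List ℕ) := [[], [4,1,3,1],
  [2,4,1,3,1,1],
  [3,1,3,2,4,4,2,4,2,4,1,4,4,1],
  [3,1,3,3,1,4,2,4,2,4,2,2,4,1],
  [2,3,1,1,3,3,1,4,1,4,1],
  [3,2,4,4,1,1,1,4,4,2,4,2],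
  [4,2,3],
  [4,1,3],
  [4,4,1,1,1,3,1,1]]

/-- the generators -/
def gM (y : ℕ) : GL (Fin 7) (ZMod 11) := evL gXY (wds.getD y []) 1

/-- their codes -/
def cM : List ℕ := [6277101736848182401506974708411517874814724153223283736577,
  62771017355328309279091620819568961790906294620324162961418,
  62771017368481824012007205781826732576810849368644882792458,
  245199286542110336569105819167649755942102672542990860288,
  3741501282345942568314282922174437283930216366931968,
  50290380416843749789384209912138916837935316308227684565160,
  56567538268052292877151856352589416037970450743657163260072,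
  3764828217818851096001309933831808373130128395337888,
  392318859375106071092818810765292585589205751676962603008,
  19472676315465504163036923848046665021976732984501153634691]

theorem gM_val (y : ℕ) : (gM y).val = toM (cM.getD y 6277101736848182401506974708411517874814724153223283736577) := by
  rcases lt_or_ge y 10 with h | h
  · refine wk_sound gXY_val _ _ _ _ ?_ toM_one
    revert y
    decide +kernel
  · obtain ⟨z, rfl⟩ := Nat.exists_eq_add_of_le' h
    exact toM_one

theorem evL_mem {Γ : Type*} [Group Γ] {gen : ℕ → Γ} {K : Subgroup Γ} (h : ∀ y, gen y ∈ K)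
    (l : List ℕ) : ∀ g ∈ K, evL gen l g ∈ K := by
  induction l with
  | nil => exact fun g hg => hg
  | cons y l ih => exact fun g hg => ih _ (K.mul_mem (h y) hg)

theorem gM_mem (y : ℕ) : gM y ∈ Spor.J1 := by
  have hX : jankoX ∈ Spor.J1 := Subgroup.subset_closure (by simp)
  have hY : jankoY ∈ Spor.J1 := Subgroup.subset_closure (by simp)
  refine evL_mem (fun y => ?_) _ _ (one_mem _)
  match y with
  | 0 => exact one_mem _
  | 1 => exact hX
  | 2 => exact inv_mem hX
  | 3 => exact hY
  | 4 => exact inv_mem hY
  | _ + 5 => exact one_mem _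

theorem gM_ev {l : List ℕ} {e : ℕ} (h : wk cM l 6277101736848182401506974708411517874814724153223283736577 e = true) : (evL gM l 1).val = toM e :=
  wk_sound gM_val _ _ _ _ h toM_one

theorem gM_rel : ∀ l ∈ CM.rels, evL gM l 1 = 1 := by
  have : ∀ l ∈ CM.rels, wk cM l 6277101736848182401506974708411517874814724153223283736577 6277101736848182401506974708411517874814724153223283736577 = true := by decide +kernel
  exact fun l hl => Units.ext ((gM_ev (this l hl)).trans toM_one.symm)

theorem gM_inv : ∀ y < 32, gM (ivl 324637421602848 y) = (gM y)⁻¹ := by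
  have : ∀ y < 32, wk cM [y, ivl 324637421602848 y] 6277101736848182401506974708411517874814724153223283736577 6277101736848182401506974708411517874814724153223283736577 = true := by decide +kernel
  intro y hy
  have e : evL gM [y, ivl 324637421602848 y] 1 = 1 :=
    Units.ext ((gM_ev (this y hy)).trans toM_one.symm)
  exact eq_inv_of_mul_eq_one_left (by simpa [evL] using e)

theorem gM_X : gM 1 * gM 7 = jankoX := by
  have e : evL gM [7, 1] 1 = jankoX :=
    Units.ext ((gM_ev (e := 397528445359450111623404940514766352372066718580752) (by decide +kernel)).trans (gXY_val 1).symm)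
  simpa [evL] using e

theorem gM_Y : gM 9 * (gM 1 * (gM 2 * gM 8)) = jankoY := by
  have e : evL gM [8, 2, 1, 9] 1 = jankoY :=
    Units.ext ((gM_ev (e := 7480991916830962229115210795734213009165743696062808893992) (by decide +kernel)).trans (gXY_val 3).symm)
  simpa [evL] using e

theorem gM_ne : gM 1 ≠ 1 := fun e => by
  have := (gM_val 1).symm.trans ((congrArg Units.val e).trans toM_one)
  revert this
  decide +kernel

theorem gM_closure : Subgroup.closure (gM '' {y | y ≤ 9}) = Spor.J1 := by
  apply le_antisymm
  · rw [Subgroup.closure_le]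
    rintro _ ⟨y, -, rfl⟩
    exact gM_mem y
  · have h : ∀ y ≤ 9, gM y ∈ Subgroup.closure (gM '' {y | y ≤ 9}) := fun y hy =>
      Subgroup.subset_closure ⟨y, hy, rfl⟩
    rw [Spor.J1, Subgroup.closure_le]
    rintro _ (rfl | rfl)
    · rw [← gM_X]; exact mul_mem (h 1 (by decide)) (h 7 (by decide))
    · rw [← gM_Y]
      exact mul_mem (h 9 (by decide)) (mul_mem (h 1 (by decide))
        (mul_mem (h 2 (by decide)) (h 8 (by decide))))

end J1
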