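import Cfsg.Agent.J1.Loc
import Cfsg.Agent.J1.Mat
import Cfsg.Agent.J1.C0
import Cfsg.Agent.J1.C1
import Cfsg.Agent.J1.C2
import Cfsg.Agent.J1.C3
import Cfsg.Agent.J1.C4
import Cfsg.Agent.J1.C5
import Cfsg.Agent.J1.C6

/-! Uniqueness of the first Janko group. -/

set_option autoImplicit false
set_option linter.unusedSectionVars false

namespace J1

open JK Subgroup H1.TC Cfsg
open scoped commutatorElement

variable {G : Type*} [Group G] [Fintype G] {t : G} {Φ : KK5 →* G}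

theorem four (h : JS t Φ) {j : G} (j2 : j * j = 1) (jt : j ≠ t) (j5 : (t * j) ^ 5 = 1) {s : KK5}
    (hs : s * s = 1 ∧ s ≠ 1 ∧ kw * s = s * kw ∧ tau ≠ s ∧ kw ≠ s ∧ kw ≠ s * tau)
    (sj : Φ s * j = j * Φ s) :
    (Φ kw * t * j) ^ 3 = 1 ∨ (Φ (kw * tau) * t * j) ^ 3 = 1 ∨ (Φ (kw * s) * t * j) ^ 3 = 1 ∨
      (Φ (kw * s * tau) * t * j) ^ 3 = 1 := by
  obtain ⟨s2, s1, sw, n1, n2, n3⟩ := hs
  obtain ⟨c, hc⟩ := isConj_iff.mp (h.one (Φ s) (by rw [← map_mul, s2, map_one]) (ne_one h s1))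
  let Ψ : KK5 →* G := (MulAut.conj c).toMonoidHom.comp Φ
  have inj : Function.Injective Ψ := (MulAut.conj c).injective.comp h.inj
  have e0 : Ψ tau = Φ s := by rw [← hc, ← h.tau]; rfl
  have ex : ∀ x, x * Φ s = Φ s * x → ∃ k, Ψ k = x := fun x e => by
    obtain ⟨k, hk⟩ := h.mem (g := c⁻¹ * x * c) (by
      rw [show c⁻¹ * x * c * t = c⁻¹ * (x * (c * t * c⁻¹)) * c by group, hc, e, ← hc]; group)
    exact ⟨k, by show c * Φ k * c⁻¹ = x; rw [hk]; group⟩
  obtain ⟨t', ht⟩ := ex t (h.comm s)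
  obtain ⟨w', hw⟩ := ex (Φ kw) (by rw [← map_mul, sw, map_mul])
  obtain ⟨j', hj⟩ := ex j sj.symm
  have := five_three t' (inj (by rw [map_mul, ht, h.t2, map_one]))
    (fun e => h.t1 (by rw [← ht, e, map_one]))
    (fun e => ne_of h n1 (by rw [h.tau, ← ht, e, e0])) w'
    (inj (by rw [map_mul, hw, ← map_mul, show kw * kw = 1 by decide +kernel, map_one, map_one]))
    (inj (by rw [map_mul, map_mul, hw, ht]; exact (h.comm kw).symm))
    (fun e => ne_one h (show kw ≠ 1 by decide +kernel) (by rw [← hw, e, map_one]))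
    (fun e => ne_of h n2 (by rw [← hw, e, e0]))
    (fun e => ne_of h (show kw ≠ tau by decide +kernel) (by rw [← hw, e, ht, h.tau]))
    (fun e => ne_of h n3 (by rw [← hw, e, map_mul, map_mul, e0, ht, h.tau])) j'
    (inj (by rw [map_mul, hj, j2, map_one])) (fun e => jt (by rw [← hj, e, ht]))
    (inj (by rw [map_pow, map_mul, hj, ht, j5, map_one]))
  rcases this with e | e | e | e <;> have e := congrArg Ψ e <;>
    simp only [map_pow, map_mul, map_one, ht, hw, hj, e0] at e <;>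
    simp only [map_mul, h.tau, e, true_or, or_true]

/-- generators of `Z₂ × A₅` -/
def gK (x : KK5) (y : ℕ) : KK5 := [1, tau, ka, kr, kr⁻¹, ku, x].getD y 1

/-- generators -/
def gen (Φ : KK5 →* G) (x : KK5) (g j : G) (y : ℕ) : G :=
  [1, Φ tau, Φ ka, Φ kr, Φ kr⁻¹, Φ ku, Φ x, g, g⁻¹, j].getD y 1

theorem gen_le {x : KK5} {g j : G} {y : ℕ} (hy : y ≤ 6) : gen Φ x g j y = Φ (gK x y) := by
  interval_cases y
  · exact (map_one Φ).symm
  all_goals rfl

theorem evL_K {x : KK5} {g j : G} (l : List ℕ) (hl : ∀ y ∈ l, y ≤ 6) :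
    ∀ k, evL (gen Φ x g j) l (Φ k) = Φ (evL (gK x) l k) := by
  induction l with
  | nil => exact fun k => rfl
  | cons y l ih =>
    intro k
    show evL _ l (gen Φ x g j y * Φ k) = Φ (evL _ l (gK x y * k))
    rw [gen_le (hl y List.mem_cons_self), ← map_mul, ih fun z hz => hl z (List.mem_cons_of_mem _ hz)]

/-- the relators common to all cases -/
def fixed : List (List ℕ) := [[7,7,7,7,7,7,7], [7,9,7,9], [4,9,3,9], [9,1,9,1,9,1,9,1,9,1],
  [2,8,1,7], [2,4,2,3,8,2,7], [1,4,2,3,8,4,2,3,7], [8,8,8,8,4,7,3], [9,1,6,9,1,6,9,1,6]]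

/-- the configuration of generators -/
structure Cfg (t : G) (Φ : KK5 →* G) (g j : G) : Prop where
  js : JS t Φ
  rg : RG t Φ g
  j2 : j * j = 1
  jg : j * g * j * g = 1
  jr : j * Φ kr = Φ kr * j
  j5 : (t * j) ^ 5 = 1

variable {g j : G}

theorem Cfg.fix (c : Cfg t Φ g j) {x : KK5} (hx : (Φ x * t * j) ^ 3 = 1) :
    ∀ l ∈ fixed, evL (gen Φ x g j) l 1 = 1 := by
  obtain ⟨h, ⟨g7, gt, ga, gb, rg⟩, j2, jg, jr, j5⟩ := c
  obtain rfl := h.tau
  have kb' : Φ kr * (Φ ka * Φ kr⁻¹) = Φ kb := by rw [← map_mul, ← map_mul, kb, mul_assoc]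
  simp only [fixed, List.forall_mem_cons, List.not_mem_nil, IsEmpty.forall_iff, implies_true,
    and_true]
  refine ⟨?_, ?_, ?_, ?_, ?_, ?_, ?_, ?_, ?_⟩
  · show g * (g * (g * (g * (g * (g * (g * 1)))))) = 1
    simpa only [pow_succ, mul_assoc, pow_zero, one_mul, mul_one] using g7
  · show j * (g * (j * (g * 1))) = 1
    simpa only [mul_assoc, mul_one] using jg
  · show j * (Φ kr * (j * (Φ kr⁻¹ * 1))) = 1
    rw [← mul_assoc, jr, map_inv, mul_assoc, ← mul_assoc j, j2]; group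
  · show Φ tau * (j * (Φ tau * (j * (Φ tau * (j * (Φ tau * (j * (Φ tau * (j * 1))))))))) = 1
    simpa only [pow_succ, mul_assoc, pow_zero, one_mul, mul_one] using j5
  · show g * (Φ tau * (g⁻¹ * (Φ ka * 1))) = 1
    rw [← mul_assoc, ← mul_assoc, gt, mul_one, ← map_mul]
    exact (congrArg Φ (by decide +kernel)).trans (map_one Φ)
  · show g * (Φ ka * (g⁻¹ * (Φ kr * (Φ ka * (Φ kr⁻¹ * (Φ ka * 1)))))) = 1
    rw [← mul_assoc, ← mul_assoc, ga, mul_one]
    simp only [← map_mul]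
    exact (congrArg Φ (by decide +kernel)).trans (map_one Φ)
  · show g * (Φ kr * (Φ ka * (Φ kr⁻¹ * (g⁻¹ * (Φ kr * (Φ ka * (Φ kr⁻¹ * (Φ tau * 1)))))))) = 1
    rw [show ∀ a b c d : G, g * (a * (b * (c * (g⁻¹ * d)))) = (g * (a * (b * c)) * g⁻¹) * d from
      fun a b c d => by group, kb', gb, mul_one]
    simp only [← map_mul]
    exact (congrArg Φ (by decide +kernel)).trans (map_one Φ)
  · show Φ kr * (g * (Φ kr⁻¹ * (g⁻¹ * (g⁻¹ * (g⁻¹ * (g⁻¹ * 1)))))) = 1
    rw [map_inv, ← mul_assoc, ← mul_assoc, rg]; group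
  · show Φ x * (Φ tau * (j * (Φ x * (Φ tau * (j * (Φ x * (Φ tau * (j * 1)))))))) = 1
    simpa only [pow_succ, mul_assoc, pow_zero, one_mul, mul_one] using hx

theorem Cfg.rels (c : Cfg t Φ g j) {x : KK5} (hx : (Φ x * t * j) ^ 3 = 1) {l₀ : List ℕ}
    (h₀ : evL (gen Φ x g j) l₀ 1 = 1) {rels : List (List ℕ)}
    (hr : ∀ l ∈ rels, l ∈ fixed ∨ l = l₀ ∨ (∀ y ∈ l, y ≤ 6) ∧ evL (gK x) l 1 = 1) :
    ∀ l ∈ rels, evL (gen Φ x g j) l 1 = 1 := fun l hl => by
  rcases hr l hl with a | rfl | ⟨a, b⟩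
  · exact c.fix hx l a
  · exact h₀
  · rw [← map_one Φ, evL_K l a, b]

theorem Cfg.inv (c : Cfg t Φ g j) {x : KK5} (hx : x * x = 1) :
    ∀ y < 32, gen Φ x g j (ivl 324637421602848 y) = (gen Φ x g j y)⁻¹ := by
  have k : ∀ k : KK5, k * k = 1 → Φ k = (Φ k)⁻¹ := fun k e =>
    eq_inv_of_mul_eq_one_left (by rw [← map_mul, e, map_one])
  intro y hy
  rcases lt_or_ge y 10 with a | a
  · interval_cases y
    · exact inv_one.symm
    · exact k tau (by decide)
    · exact k ka (by decide)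
    · exact map_inv Φ kr
    · exact (by rw [map_inv, inv_inv] : Φ kr = (Φ kr⁻¹)⁻¹)
    · exact k ku (by decide)
    · exact k x hx
    · rfl
    · exact (inv_inv g).symm
    · exact eq_inv_of_mul_eq_one_left c.j2
  · obtain ⟨z, rfl⟩ := Nat.exists_eq_add_of_le' a
    rw [(show ∀ y < 32, 10 ≤ y → ivl 324637421602848 y = 0 by decide) _ hy a]
    exact inv_one.symm

theorem sub127 : ∀ y < 32, Nat.land (Nat.shiftRight 127 y) 1 = 1 → y ≤ 6 := by decide

theorem gen_sub (x : KK5) : ∀ y < 32, Nat.land (Nat.shiftRight 127 y) 1 = 1 →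
    gen Φ x g j y • ((1 : G) : G ⧸ Φ.range) = ((1 : G) : G ⧸ Φ.range) := fun y hy e => by
  rw [gen_le (sub127 y hy e), MulAction.Quotient.smul_coe, smul_eq_mul, mul_one, QuotientGroup.eq]
  simp

theorem Cfg.not_fix (c : Cfg t Φ g j) {x : KK5} :
    gen Φ x g j 9 • ((1 : G) : G ⧸ Φ.range) ≠ ((1 : G) : G ⧸ Φ.range) := fun e => by
  rw [MulAction.Quotient.smul_coe, smul_eq_mul, mul_one, QuotientGroup.eq, mul_one, inv_mem_iff] at e
  obtain ⟨k, hk⟩ := e
  have hk : Φ k = j := hk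
  have a : (t * j) ^ 2 = 1 := by
    rw [← hk, (c.js.comm k).mul_pow, hk, pow_two, pow_two, c.j2, c.js.t2, one_mul]
  have b : t * j = 1 := by simpa using pow_gcd_eq_one.mpr ⟨a, c.j5⟩
  exact c.rg.tj c.js c.jg (mul_left_cancel (b.trans c.js.t2.symm))

theorem Cfg.main (c : Cfg t Φ g j)
    (hs : Φ ku * j = j * Φ ku ∨ Φ ku * t * j = j * (Φ ku * t)) :
    ∀ l ∈ CM.rels, evL (gen Φ (kw * ku) g j) l 1 = 1 := by
  have h := c.js
  have jt := c.rg.tj h c.jg
  rcases hs with hs | hs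
  · have l0 : ∀ x, evL (gen Φ x g j) [9,5,9,5] 1 = 1 := fun x => by
      show Φ ku * (j * (Φ ku * (j * 1))) = 1
      rw [mul_one, hs, ← mul_assoc j, c.j2, one_mul, ← map_mul]
      exact (congrArg Φ (by decide +kernel)).trans (map_one Φ)
    rcases four h c.j2 jt c.j5 (s := ku) (by decide +kernel) hs with e | e | e | e
    · exact absurd (C0.fix (C0.hyp rfl (c.inv (by decide +kernel))
        (c.rels e (l0 _) (by decide +kernel)) (gen_sub _))) c.not_fix
    · exact absurd (C1.fix (C1.hyp rfl (c.inv (by decide +kernel))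
        (c.rels e (l0 _) (by decide +kernel)) (gen_sub _))) c.not_fix
    · exact c.rels e (l0 _) (by decide +kernel)
    · exact absurd (C2.fix (C2.hyp rfl (c.inv (by decide +kernel))
        (c.rels e (l0 _) (by decide +kernel)) (gen_sub _))) c.not_fix
  · rw [← h.tau, ← map_mul] at hs
    have l0 : ∀ x, evL (gen Φ x g j) [9,1,5,9,1,5] 1 = 1 := fun x => by
      show Φ ku * (Φ tau * (j * (Φ ku * (Φ tau * (j * 1))))) = 1
      rw [mul_one, ← mul_assoc (Φ ku), ← mul_assoc (Φ ku), ← map_mul, hs, ← mul_assoc j, c.j2,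
        one_mul, ← map_mul]
      exact (congrArg Φ (by decide +kernel)).trans (map_one Φ)
    exfalso
    rcases four h c.j2 jt c.j5 (s := ku * tau) (by decide +kernel) hs with e | e | e | e
    · exact absurd (C3.fix (C3.hyp rfl (c.inv (by decide +kernel))
        (c.rels e (l0 _) (by decide +kernel)) (gen_sub _))) c.not_fix
    · exact absurd (C4.fix (C4.hyp rfl (c.inv (by decide +kernel))
        (c.rels e (l0 _) (by decide +kernel)) (gen_sub _))) c.not_fix
    · exact absurd (C6.fix (C6.hyp rfl (c.inv (by decide +kernel))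
        (c.rels e (l0 _) (by decide +kernel)) (gen_sub _))) c.not_fix
    · exact absurd (C5.fix (C5.hyp rfl (c.inv (by decide +kernel))
        (c.rels e (l0 _) (by decide +kernel)) (gen_sub _))) c.not_fix

/-- the order bound -/
theorem card_bound {Γ : Type*} [Group Γ] [Finite Γ] {f : ℕ → Γ} (h0 : f 0 = 1)
    (hi : ∀ y < 32, f (ivl 324637421602848 y) = (f y)⁻¹) (hr : ∀ l ∈ CM.rels, evL f l 1 = 1) :
    Nat.card (closure (f '' {y | y ≤ 9})) ≤ 175560 := by
  have a := CM.card (S := closure (f '' {y | y ≤ 6})) (CM.hyp h0 hi hr fun y hy e => by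
    rw [MulAction.Quotient.smul_coe, smul_eq_mul, mul_one, QuotientGroup.eq, mul_one, inv_mem_iff]
    exact subset_closure ⟨y, sub127 y hy e, rfl⟩)
  let f' : ℕ → Γ := fun y => if y ≤ 6 then f y else 1
  have ev : ∀ l : List ℕ, (∀ y ∈ l, y ≤ 6) → ∀ x, evL f' l x = evL f l x := by
    intro l
    induction l with
    | nil => exact fun _ _ => rfl
    | cons y l ih =>
      intro hl x
      show evL f' l (f' y * x) = evL f l (f y * x)
      rw [ih fun z hz => hl z (List.mem_cons_of_mem _ hz), show f' y = f y from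
        if_pos (hl y List.mem_cons_self)]
  have b := CH.card (S := ⊥) (gen := f') (CH.hyp h0 (fun y hy => by
      by_cases e : y ≤ 6
      · obtain ⟨e1, e2⟩ := (show ∀ y ≤ 6, ivl 6613501984 y ≤ 6 ∧
          ivl 6613501984 y = ivl 324637421602848 y by decide) y e
        simp only [f', if_pos e, if_pos e1]
        rw [e2, hi y hy]
      · rw [(show ∀ y < 32, ¬ y ≤ 6 → ivl 6613501984 y = 0 by decide) y hy e]
        simp [f', e, h0])
    (fun l hl => by
      obtain ⟨e1, e2⟩ := (show ∀ l ∈ CH.rels, l ∈ CM.rels ∧ ∀ y ∈ l, y ≤ 6 by decide) l hl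
      rw [ev l e2, hr l e1])
    fun y hy e => by
      rw [(show ∀ y < 32, Nat.land (Nat.shiftRight 1 y) 1 = 1 → y = 0 by decide) y hy e,
        show f' 0 = 1 from h0, one_smul])
  rw [card_bot, show f' '' {y | y ≤ 6} = f '' {y | y ≤ 6} from
    Set.image_congr fun y hy => if_pos hy] at b
  omega

theorem K_gen (L : Subgroup KK5) (h1 : tau ∈ L) (h2 : ka ∈ L) (h3 : kr ∈ L) (h4 : ku ∈ L) :
    L = ⊤ := by
  have a : L.comap (MonoidHom.inr _ A5) = ⊤ := by
    have : ∀ x : A5, ∃ l ∈ ([[], [0], [1], [2], [0,1], [0,2], [1,0], [1,1], [1,2], [2,0], [2,1], [0,1,0], [0,1,1],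
      [0,1,2], [0,2,0], [0,2,1], [1,0,1], [1,0,2], [1,1,0], [1,2,0], [2,0,1], [2,1,0],
      [0,1,0,2], [0,1,2,0], [0,2,0,1], [0,2,1,0], [1,0,1,1], [1,0,1,2], [1,0,2,0], [1,0,2,1],
      [1,1,0,1], [1,1,0,2], [1,2,0,1], [2,0,1,0], [2,0,1,1], [2,0,1,2], [2,1,0,1], [2,1,0,2],
      [0,1,0,2,0], [0,1,0,2,1], [0,1,2,0,1], [0,2,0,1,0], [0,2,1,0,1], [0,2,1,0,2], [1,0,2,0,1],
      [1,0,2,1,0], [1,2,0,1,0], [1,2,0,1,2], [2,1,0,1,2], [2,1,0,2,1], [0,1,0,2,0,1],
      [0,1,0,2,1,0], [0,1,2,0,1,0], [0,1,2,0,1,2], [0,2,1,0,1,2], [0,2,1,0,2,1], [1,0,2,1,0,1],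
      [2,1,0,2,1,0], [0,1,0,2,1,0,1], [0,2,1,0,2,1,0]] : List (List ℕ)),
        evL (fun y => [v5, y5, u5].getD y 1) l 1 = x := by decide +kernel
    refine eq_top_iff.mpr fun x _ => ?_
    obtain ⟨l, -, rfl⟩ := this x
    refine evL_mem (fun y => ?_) l 1 (one_mem _)
    match y with
    | 0 => exact h2
    | 1 => exact h3
    | 2 => exact h4
    | _ + 3 => exact one_mem _
  refine eq_top_iff.mpr fun k _ => ?_
  have b : ((1, k.2) : KK5) ∈ L := (a ▸ mem_top k.2 : k.2 ∈ L.comap (MonoidHom.inr _ A5))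
  rcases o2_cases k.1 with e | e
  · rwa [← e] at b
  · have := mul_mem h1 b
    rwa [tau, Prod.mk_mul_mk, mul_one, one_mul, ← e] at this

theorem RG.conj_in (h : JS t Φ) (r : RG t Φ g) {H : Subgroup G} (mΦ : ∀ k, Φ k ∈ H) (mg : g ∈ H)
    {u : G} (hu : u ∈ H) (u2 : u * u = 1) (u1 : u ≠ 1) : ∃ z ∈ H, z * t * z⁻¹ = u := by
  obtain ⟨g7, gt, ga, gb, rg⟩ := r
  have mt : t ∈ H := h.tau ▸ mΦ tau
  let Ψ : KK5 →* H := Φ.codRestrict H mΦ
  have cj : ∀ n, n ≠ 0 → IsConj (⟨t, mt⟩ : H) (Ψ (ph n)) := by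
    have a1 : IsConj (⟨t, mt⟩ : H) (Ψ (ph 2)) := isConj_iff.mpr ⟨⟨g, mg⟩, Subtype.ext gt⟩
    have a2 : IsConj (Ψ (ph 4)) (Ψ (ph 5)) := isConj_iff.mpr ⟨⟨g, mg⟩, Subtype.ext
      (gb.trans (by rw [← h.tau, ← map_mul]; rfl))⟩
    have a3 : ∀ n, IsConj (Ψ (ph n)) (Ψ (ph (rr n))) := fun n =>
      isConj_iff.mpr ⟨Ψ kr, by rw [← ph_rr, map_mul, map_mul, map_inv]⟩
    have b4 := a1.trans (a3 2)
    have b5 := b4.trans a2
    intro n hn
    fin_cases n
    · exact absurd rfl hn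
    · exact (show (⟨t, mt⟩ : H) = Ψ (ph 1) from Subtype.ext h.tau.symm) ▸ IsConj.refl _
    · exact a1
    · exact (b5.trans (a3 5)).trans (a3 7)
    · exact b4
    · exact b5
    · exact b4.trans (a3 4)
    · exact b5.trans (a3 5)
  obtain ⟨P, hP⟩ := sylow_TT h
  have le : (P : Subgroup G) ≤ H := by
    rw [hP]; rintro _ ⟨k, -, rfl⟩; exact mΦ k
  obtain ⟨z, hz⟩ := H8.exists_conj_mem_sylow (P.subtype le) (y := ⟨u, hu⟩) (k := 1)
    (orderOf_eq_prime (p := 2) (Subtype.ext (by rw [coe_pow, pow_two, u2]; rfl))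
      fun e => u1 (congrArg Subtype.val e))
  rw [Sylow.coe_subtype, mem_subgroupOf, hP] at hz
  obtain ⟨n, hn⟩ := mem_TT.mp hz
  have hn : Ψ (ph n) = z⁻¹ * ⟨u, hu⟩ * z := Subtype.ext hn
  obtain ⟨c, hc⟩ := isConj_iff.mp ((cj n (by
    rintro rfl
    rw [show ph 0 = 1 from rfl, map_one] at hn
    exact u1 (congrArg Subtype.val (show (⟨u, hu⟩ : H) = 1 by
      rw [show (⟨u, hu⟩ : H) = z * (z⁻¹ * ⟨u, hu⟩ * z) * z⁻¹ by group, ← hn]; simp)))).trans
    (isConj_iff.mpr ⟨z, show _ = (⟨u, hu⟩ : H) by rw [hn]; group⟩))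
  exact ⟨c, c.2, congrArg Subtype.val hc⟩

theorem perfect_of_JS (h : JS t Φ) : _root_.commutator G = ⊤ := by
  obtain ⟨Φ, g, h, r⟩ := exists_RG h
  have hN : (_root_.commutator G).Normal := inferInstance
  have inv : ∀ u : G, u * u = 1 → u ∈ _root_.commutator G := by
    have a : Φ (ph 3) ∈ _root_.commutator G := by
      have : Φ (ph 3) = ⁅t, g⁆ := by
        show Φ (tau * ka) = t * g * t⁻¹ * g⁻¹
        rw [inv_eq_of_mul_eq_one_right h.t2, map_mul, h.tau, ← r.gt]; group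
      rw [this]
      exact commutator_mem_commutator (mem_top _) (mem_top _)
    intro u u2
    by_cases u1 : u = 1
    · exact u1 ▸ one_mem _
    obtain ⟨z, rfl⟩ := isConj_iff.mp ((h.one _ (by rw [← map_mul, ph_sq, map_one])
      (ne_one h (by decide : ph 3 ≠ 1))).symm.trans (h.one u u2 u1))
    exact hN.conj_mem _ a z
  have k : ∀ k, Φ k ∈ _root_.commutator G := fun k => by
    have s : ∀ k : KK5, k * k = 1 → Φ k ∈ _root_.commutator G := fun k e =>
      inv _ (by rw [← map_mul, e, map_one])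
    have : (_root_.commutator G).comap Φ = ⊤ := K_gen _ (s _ (by decide)) (s _ (by decide))
      (by rw [show kr = ku * (ku * kr) by decide]
          exact mul_mem (s _ (by decide)) (s _ (by decide))) (s _ (by decide))
    exact (this ▸ mem_top k : k ∈ (_root_.commutator G).comap Φ)
  have mg : g ∈ _root_.commutator G := by
    have a : g ^ 3 ∈ _root_.commutator G := by
      have : g ^ 3 = ⁅Φ kr, g⁆ := by rw [commutatorElement_def, r.rg]; group
      rw [this]
      exact commutator_mem_commutator (mem_top _) (mem_top _)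
    have := pow_mem a 5
    rwa [← pow_mul, show 3 * 5 = 7 * 2 + 1 from rfl, pow_succ, pow_mul, r.g7, one_pow, one_mul] at this
  refine eq_top_iff.mpr fun x _ => ?_
  have x2 : x * t * x⁻¹ * (x * t * x⁻¹) = 1 := by
    rw [show x * t * x⁻¹ * (x * t * x⁻¹) = x * (t * t) * x⁻¹ by group, h.t2]; simp
  obtain ⟨z, hz, e⟩ := r.conj_in h k mg (inv _ x2) x2 fun e => h.t1 (conj_eq_one_iff.mp e)
  obtain ⟨y, hy⟩ := h.mem (g := z⁻¹ * x) (by
    rw [show z⁻¹ * x * t = z⁻¹ * (x * t * x⁻¹) * x by group, ← e]; group)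
  have := mul_mem hz (k y)
  rwa [hy, mul_inv_cancel_left] at this

theorem js_sub (h : JS t Φ) {H : Subgroup G} [Fintype H] (mΦ : ∀ k, Φ k ∈ H) (mt : t ∈ H)
    (h1 : ∀ u ∈ H, u * u = 1 → u ≠ 1 → ∃ z ∈ H, z * t * z⁻¹ = u) :
    JS (⟨t, mt⟩ : H) (Φ.codRestrict H mΦ) := by
  refine ⟨fun a b e => h.inj (congrArg Subtype.val e), Subtype.ext h.tau, ?_, fun u u2 u1 => ?_⟩
  · ext y
    rw [mem_centralizer_singleton_iff]
    constructor
    · intro e
      obtain ⟨k, hk⟩ := h.mem (congrArg Subtype.val e)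
      exact ⟨k, Subtype.ext hk⟩
    · rintro ⟨k, rfl⟩
      exact Subtype.ext (h.comm k).symm
  · obtain ⟨z, hz, e⟩ := h1 u u.2 (congrArg Subtype.val u2) fun e => u1 (Subtype.ext e)
    exact isConj_iff.mpr ⟨⟨z, hz⟩, Subtype.ext e⟩

theorem Cfg.top (c : Cfg t Φ g j) (hc : Nat.card G = 175560) (x : KK5) :
    closure (gen Φ x g j '' {y | y ≤ 9}) = ⊤ := by
  set H := closure (gen Φ x g j '' {y | y ≤ 9}) with hH
  have m : ∀ y ≤ 9, gen Φ x g j y ∈ H := fun y hy => subset_closure ⟨y, hy, rfl⟩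
  have mΦ : ∀ k, Φ k ∈ H := fun k => by
    have : H.comap Φ = ⊤ := K_gen _ (m 1 (by decide)) (m 2 (by decide)) (m 3 (by decide))
      (m 5 (by decide))
    exact (this ▸ mem_top k : k ∈ H.comap Φ)
  have := Fintype.ofFinite H
  have js := js_sub c.js mΦ (c.js.tau ▸ mΦ tau) fun u hu =>
    c.rg.conj_in c.js mΦ (m 7 (by decide)) hu
  exact H.eq_top_of_card_eq ((js.card (perfect_of_JS js)).trans hc.symm)

theorem evL_prod {A B : Type*} [Group A] [Group B] (f : ℕ → A) (f' : ℕ → B) (l : List ℕ) :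
    ∀ a b, evL (fun y => (f y, f' y)) l (a, b) = (evL f l a, evL f' l b) := by
  induction l with
  | nil => exact fun _ _ => rfl
  | cons y l ih => exact fun a b => ih _ _

theorem iso_of_JS (h : JS t Φ) (hG : _root_.commutator G = ⊤) : Spor.IsoJ1 G := by
  have hc := h.card hG
  obtain ⟨Φ, g, h, r⟩ := exists_RG h
  obtain ⟨-, j, j2, jg, jr⟩ := exists_j h hc r
  have j1 : j ≠ 1 := by
    rintro rfl
    rw [one_mul, mul_one, ← pow_two] at jg
    exact r.g1 h (by simpa using pow_gcd_eq_one.mpr ⟨r.g7, jg⟩)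
  obtain ⟨j5, hs⟩ := exists_s h hc j2 j1 jr
  have c : Cfg t Φ g j := ⟨h, r, j2, jg, jr, j5⟩
  let f : ℕ → G × GL (Fin 7) (ZMod 11) := fun y => (gen Φ (kw * ku) g j y, gM y)
  have b := card_bound (f := f) rfl
    (fun y hy => Prod.ext (c.inv (by decide +kernel) y hy) (gM_inv y hy)) fun l hl =>
      (evL_prod _ _ l 1 1).trans (Prod.ext (c.main hs l hl) (gM_rel l hl))
  set Γ := closure (f '' {y | y ≤ 9})
  let p := (MonoidHom.fst G (GL (Fin 7) (ZMod 11))).comp Γ.subtype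
  let q := (MonoidHom.snd G (GL (Fin 7) (ZMod 11))).comp Γ.subtype
  have pr : p.range = ⊤ := by
    rw [MonoidHom.range_comp, range_subtype, MonoidHom.map_closure, Set.image_image]
    exact c.top hc _
  have qr : q.range = Spor.J1 := by
    rw [MonoidHom.range_comp, range_subtype, MonoidHom.map_closure, Set.image_image]
    exact gM_closure
  have pb : Function.Bijective p := (MonoidHom.range_eq_top.mp pr).bijective_of_nat_card_le (hc ▸ b)
  let e := MulEquiv.ofBijective p pb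
  let ψ := q.comp e.symm.toMonoidHom
  have k := normal_eq_bot h ψ.ker fun z => gM_ne (by
    have : e ⟨f 1, subset_closure ⟨1, by decide, rfl⟩⟩ = t := h.tau
    rw [← this, MonoidHom.mem_ker] at z
    simpa [ψ, q, f] using z)
  refine ⟨(MonoidHom.ofInjective ((MonoidHom.ker_eq_bot_iff ψ).mp k)).trans
    (MulEquiv.subgroupCongr ?_)⟩
  rw [MonoidHom.range_comp, (MonoidHom.range_eq_top (f := e.symm.toMonoidHom)).mpr e.symm.surjective,
    ← MonoidHom.range_eq_map, qr]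

theorem iso_of_JS' (h : JS t Φ) : Spor.IsoJ1 G := iso_of_JS h (perfect_of_JS h)

theorem card_of_JS (h : JS t Φ) : Nat.card G = 175560 := h.card (perfect_of_JS h)

theorem card_sylow7 (h : JS t Φ) : Nat.card (Sylow 7 G) = 4180 := by
  obtain ⟨Φ, g, h, r⟩ := exists_RG h
  exact (exists_j h (card_of_JS h) r).1

/-- a subgroup of odd order is not transitive on the involutions -/
theorem not_trans (h : JS t Φ) {X : Subgroup G} (ho : Odd (Nat.card X))
    (hX : ∀ u, u * u = 1 → u ≠ 1 → ∃ x ∈ X, x * t * x⁻¹ = u) : False := by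
  have := Fact.mk (show Nat.Prime 7 by decide)
  have hc := card_of_JS h
  have c1 : (centralizer ({t} : Set G)).index = 1463 := by
    have := (centralizer ({t} : Set G)).card_mul_index
    rw [hc, h.cen, ← Nat.card_congr (MonoidHom.ofInjective h.inj).toEquiv, card_K, ← h.cen] at this
    omega
  have d1 : 1463 ∣ Nat.card X := by
    have e := (MulAction.stabilizer X ((1 : G) : G ⧸ centralizer ({t} : Set G))).index_dvd_card
    rw [MulAction.index_stabilizer, Set.eq_univ_of_forall (s := MulAction.orbit _ _) fun y => ?_,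
      Set.ncard_univ, ← index_eq_card, c1] at e
    · exact e
    induction y using QuotientGroup.induction_on with | H y => ?_
    obtain ⟨x, hx, e⟩ := hX (y * t * y⁻¹) (by
      rw [show y * t * y⁻¹ * (y * t * y⁻¹) = y * (t * t) * y⁻¹ by group, h.t2]; simp)
      fun e => h.t1 (conj_eq_one_iff.mp e)
    refine ⟨⟨x, hx⟩, ?_⟩
    show ((x * 1 : G) : G ⧸ centralizer ({t} : Set G)) = y
    rw [mul_one, QuotientGroup.eq, mem_centralizer_singleton_iff,
      show x⁻¹ * y * t = x⁻¹ * (y * t * y⁻¹) * y by group, ← e]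
    group
  obtain ⟨k, hk⟩ := d1
  have k15 : k ∣ 15 := by
    have a := X.card_subgroup_dvd_card
    rw [hc, hk, show 175560 = 1463 * (2 ^ 3 * 15) from rfl] at a
    refine Nat.Coprime.dvd_of_dvd_mul_left (Nat.Coprime.pow_right 3 ?_)
      (Nat.dvd_of_mul_dvd_mul_left (by decide) a)
    rw [hk] at ho
    exact Nat.coprime_two_right.mpr (Nat.Odd.of_mul_right ho)
  obtain ⟨x, hx⟩ := exists_prime_orderOf_dvd_card' (G := X) 7 (by rw [hk]; exact Dvd.dvd.mul_right (by decide) k)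
  obtain ⟨P, hP⟩ := exists_sylow (p := 7) (k := 1) (m := 25080) (T := zpowers x) (by
    rw [show 7 ^ 1 * 25080 = 175560 from rfl, ← hc]; exact X.card_subgroup_dvd_card) (by decide)
    (by rw [Nat.card_zpowers, hx]; rfl)
  obtain ⟨Q, hQ⟩ := exists_sylow (p := 7) (k := 1) (m := 25080) (T := zpowers (x : G))
    (by rw [hc]; decide) (by decide) (by rw [Nat.card_zpowers, orderOf_coe, hx]; rfl)
  have n1 := card_sylow_modEq_one 7 X
  have n2 := (normalizer ((P : Subgroup X) : Set X)).card_mul_index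
  have n3 := (normalizer ((Q : Subgroup G) : Set G)).card_mul_index
  have n4 : (normalizer ((P : Subgroup X) : Set X)).index = _ := P.card_eq_index_normalizer.symm
  have n5 : (normalizer ((Q : Subgroup G) : Set G)).index = _ := Q.card_eq_index_normalizer.symm
  rw [n5, card_sylow7 h, hc] at n3
  rw [n4, hk] at n2
  have n6 : Nat.card (normalizer ((P : Subgroup X) : Set X)) ∣ 42 := by
    rw [← show Nat.card (normalizer ((Q : Subgroup G) : Set G)) = 42 by omega,
      ← card_map_of_injective X.subtype_injective, hP, hQ]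
    refine card_dvd_of_le ?_
    rintro _ ⟨y, hy, rfl⟩
    obtain ⟨n, hn⟩ := (H8.mem_normalizer_zpowers_iff _ _).mp hy
    exact (H8.mem_normalizer_zpowers_iff _ _).mpr ⟨n, congrArg Subtype.val hn⟩
  have n7 : Odd (Nat.card (normalizer ((P : Subgroup X) : Set X))) :=
    ho.of_dvd_nat (card_subgroup_dvd_card _)
  generalize Nat.card (normalizer ((P : Subgroup X) : Set X)) = d at *
  generalize Nat.card (Sylow 7 X) = n at *
  unfold Nat.ModEq at n1
  have a := (show ∀ d < 43, d ∣ 42 → Odd d → d = 1 ∨ d = 3 ∨ d = 7 ∨ d = 21 by decide) d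
    (Nat.lt_succ_of_le (Nat.le_of_dvd (by decide) n6)) n6 n7
  have b := (show ∀ d < 16, d ∣ 15 → d = 1 ∨ d = 3 ∨ d = 5 ∨ d = 15 by decide) k
    (Nat.lt_succ_of_le (Nat.le_of_dvd (by decide) k15)) k15
  rcases a with rfl | rfl | rfl | rfl <;> omega

/-- **Janko**: a perfect group with one class of involutions and involution centralizer
`⟨t⟩ × A₅` is the first Janko group. -/
theorem janko {G : Type*} [Group G] [Finite G] (hG : _root_.commutator G = ⊤) {t : G}
    (ht : t * t = 1) {F : Subgroup G} (hF : Nonempty (F ≃* alternatingGroup (Fin 5)))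
    (htF : t ∉ F) (h1 : F ≤ centralizer ({t} : Set G))
    (h2 : ∀ g ∈ centralizer ({t} : Set G), g ∈ F ∨ t * g ∈ F)
    (h3 : ∀ u : G, u * u = 1 → u ≠ 1 → IsConj t u) : Spor.IsoJ1 G := by
  have := Fintype.ofFinite G
  obtain ⟨Φ, h⟩ := exists_JS ht hF htF h1 h2 h3
  exact iso_of_JS h hG

end J1
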