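import Cfsg.Agent.JK.Main

/-! Finite facts about `Z₂ × A₅` and `GL₃(2)`. -/

set_option autoImplicit false

namespace J1

open JK Equiv

/-- an involution inverting `y5` -/
def u5 : A5 := ⟨swap 0 1 * swap 3 4, Perm.mem_alternatingGroup.mpr (by decide)⟩
/-- generator -/
def ka : KK5 := (1, v5)
/-- generator -/
def kr : KK5 := (1, y5)
/-- generator -/
def ku : KK5 := (1, u5)
/-- conjugate of `ka` -/
def kb : KK5 := kr * ka * kr⁻¹
/-- an involution commuting with `ku` -/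
def kw : KK5 := kr * ka * kr⁻¹ * ku * ka * kr⁻¹

/-- the elements of the Sylow subgroup -/
def ph : Fin 8 → KK5 := ![1, tau, ka, tau * ka, kb, tau * kb, ka * kb, tau * ka * kb]

theorem ph_mul : ∀ m n, ph (m ^^^ n) = ph m * ph n := by decide +kernel
theorem ph_inj : ∀ m n, ph m = ph n → m = n := by decide +kernel
theorem ph_mem : ∀ n, ph n * ka = ka * ph n := by decide +kernel
theorem ph_surj : ∀ k : KK5, k * ka = ka * k → ∃ n, ph n = k := by decide +kernel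
theorem ph_sq : ∀ n, ph n * ph n = 1 := by decide +kernel

/-- the action of `kr` -/
def rr : Fin 8 → Fin 8 := ![0, 1, 4, 5, 6, 7, 2, 3]
theorem ph_rr : ∀ n, kr * ph n * kr⁻¹ = ph (rr n) := by decide +kernel

theorem card_norm : (Finset.univ.filter fun k : KK5 =>
    k * ka * k⁻¹ * ka = ka * (k * ka * k⁻¹)).card = 24 := by decide +kernel

theorem norm_of : ∀ k : KK5, k * ka * k⁻¹ * ka = ka * (k * ka * k⁻¹) → ∀ n,
    k * ph n * k⁻¹ * ka = ka * (k * ph n * k⁻¹) := by decide +kernel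

/-- the additive map with given values on the basis -/
def lin (p q s : Fin 8) : Fin 8 → Fin 8 := ![0, p, q, p ^^^ q, s, p ^^^ s, q ^^^ s, p ^^^ q ^^^ s]

theorem eq_lin {F : Fin 8 → Fin 8} (h0 : F 0 = 0) (h : ∀ m n, F (m ^^^ n) = F m ^^^ F n) :
    F = lin (F 1) (F 2) (F 4) := by
  funext n
  fin_cases n
  · exact h0
  · rfl
  · rfl
  · exact h 1 2
  · rfl
  · exact h 1 4
  · exact h 2 4
  · exact (h 3 4).trans (congrArg (· ^^^ F 4) (h 1 2))

theorem singer : ∀ p q s : Fin 8, p ≠ 1 → (lin p q s)^[7] 1 = 1 → ∀ k : Fin 7,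
    (∀ n, rr (lin p q s n) = (lin p q s)^[k] (rr n)) → ∃ i : Fin 7, (lin p q s)^[i] 1 = 2 ∧
      ((lin p q s)^[i] 2 = 6 ∧ (lin p q s)^[i] 4 = 5 ∧ k = 4 ∨
        (lin p q s)^[i] 2 = 4 ∧ (lin p q s)^[i] 4 = 3 ∧ k = 2) := by decide +kernel

theorem cen_kr : ∀ k : KK5, k * kr = kr * k → k ^ 2 = 1 → k = 1 ∨ k = tau := by decide +kernel
theorem cen_kr' : ∀ k : KK5, k * kr = kr * k → k ^ 6 = 1 := by decide +kernel
theorem pow30 : ∀ k : KK5, k ^ 30 = 1 := fun k => (pow_tau k).1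

set_option synthInstance.maxSize 4000 in
theorem five_three : ∀ t : KK5, t * t = 1 → t ≠ 1 → t ≠ tau → ∀ w : KK5, w * w = 1 → w * t = t * w →
    w ≠ 1 → w ≠ tau → w ≠ t → w ≠ tau * t → ∀ j : KK5, j * j = 1 → j ≠ t → (t * j) ^ 5 = 1 →
      (w * t * j) ^ 3 = 1 ∨ (w * t * t * j) ^ 3 = 1 ∨ (w * tau * t * j) ^ 3 = 1 ∨
        (w * tau * t * t * j) ^ 3 = 1 := by decide +kernel

/-- an outer automorphism -/
def al5 : A5 ≃* A5 := MulAut.conjNormal (swap (0 : Fin 5) 1)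
/-- an outer automorphism -/
def alK : KK5 ≃* KK5 := MulEquiv.prodCongr (MulEquiv.refl _) al5

theorem alK_val : alK tau = tau ∧ alK ka = ka ∧ alK kr = kr⁻¹ ∧ alK kb = ka * kb := by
  decide +kernel

end J1
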