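import Cfsg.Agent.J1.KF
import Cfsg.Agent.H8.PrimeSylow

/-! Local structure of a group of Janko type. -/

set_option autoImplicit false
set_option linter.unusedSectionVars false

namespace J1

open JK Subgroup

/-- a group with a self-centralizing involution -/
theorem exists_inverted {Y : Type*} [Group Y] [Finite Y] {t : Y} (ht : t * t = 1) (h1 : t ≠ 1)
    (hc : ∀ y, y * t = t * y → y = 1 ∨ y = t) : ∃ A : Subgroup Y, (∀ x ∈ A, t * x * t = x⁻¹) ∧
      (∀ i, i * i = 1 → i ≠ 1 → t * i ∈ A) ∧ ∀ x ∈ A, x * x = 1 → x = 1 := by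
  classical
  have sq : ∀ y, IsConj t y → y * y = 1 := by
    rintro y hy
    obtain ⟨c, rfl⟩ := isConj_iff.mp hy
    rw [show c * t * c⁻¹ * (c * t * c⁻¹) = c * (t * t) * c⁻¹ by group, ht]; simp
  have n1 : ¬ IsConj t 1 := fun e => h1 (isConj_one_left.mp e)
  have cen : ∀ i, IsConj t i → ∀ y, y * i = i * y → y = 1 ∨ y = i := by
    rintro i hi y e
    obtain ⟨c, rfl⟩ := isConj_iff.mp hi
    rcases hc (c⁻¹ * y * c) (by
      rw [show c⁻¹ * y * c * t = c⁻¹ * (y * (c * t * c⁻¹)) * c by group, e]; group) with a | a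
    · left; rw [show y = c * (c⁻¹ * y * c) * c⁻¹ by group, a]; simp
    · right; rw [← a]; group
  have prod : ∀ i i', IsConj t i → IsConj t i' → ¬ IsConj t (i * i') := by
    intro i i' a b c
    have e : i' * i = i * i' := by
      rw [← inv_eq_of_mul_eq_one_right (sq _ c), mul_inv_rev, inv_eq_of_mul_eq_one_right (sq _ a),
        inv_eq_of_mul_eq_one_right (sq _ b)]
    rcases cen i a i' e with e | e
    · exact n1 (e ▸ b)
    · rw [e, sq i a] at c; exact n1 c
  have cover : ∀ y, ¬ IsConj t y → IsConj t (t * y) := by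
    have e1 := H8.card_centralizer_mul_card_conj t
    have e2 : Nat.card (centralizer ({t} : Set Y)) = 2 := by
      rw [show centralizer ({t} : Set Y) = zpowers t from ?_, Nat.card_zpowers,
        orderOf_eq_prime (by rw [pow_two, ht]) h1]
      apply le_antisymm
      · intro y hy
        rcases hc y (mem_centralizer_singleton_iff.mp hy) with rfl | rfl
        · exact one_mem _
        · exact mem_zpowers _
      · exact zpowers_le.mpr (mem_centralizer_singleton_iff.mpr rfl)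
    have := Fintype.ofFinite Y
    let f : {y // IsConj t y} → {y // ¬ IsConj t y} := fun y => ⟨t * y, prod _ _ (IsConj.refl t) y.2⟩
    have hf : Function.Injective f := fun a b e =>
      Subtype.ext (mul_left_cancel (congrArg Subtype.val e))
    have hb : Function.Bijective f := (Nat.bijective_iff_injective_and_card f).mpr ⟨hf, by
      rw [e2] at e1
      simp only [Nat.card_eq_fintype_card, Fintype.card_subtype_compl] at e1 ⊢
      omega⟩
    intro y hy
    obtain ⟨z, hz⟩ := hb.2 ⟨y, hy⟩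
    rw [← show t * z.1 = y from congrArg Subtype.val hz, ← mul_assoc, ht, one_mul]
    exact z.2
  have inv : ∀ x, ¬ IsConj t x → t * x * t = x⁻¹ := fun x hx =>
    eq_inv_of_mul_eq_one_left (by rw [← sq _ (cover x hx)]; group)
  have cj : ∀ x, IsConj x (t * x * t) := fun x =>
    isConj_iff.mpr ⟨t, by rw [inv_eq_of_mul_eq_one_right ht]⟩
  refine ⟨⟨⟨⟨{y | ¬ IsConj t y}, ?_⟩, n1⟩, ?_⟩, inv, fun i a b => ?_, fun x hx e => ?_⟩
  · intro x y hx hy
    have := prod _ _ ((cover x hx).trans (cj _)) (cover y hy)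
    rwa [show t * (t * x) * t * (t * y) = (t * t) * x * (t * t) * y by group, ht, one_mul,
      mul_one] at this
  · intro x hx e
    exact hx (e.trans (by rw [← inv x hx]; exact (cj x).symm))
  · by_cases e : IsConj t i
    · exact prod _ _ (IsConj.refl t) e
    · have := inv i e
      rw [inv_eq_of_mul_eq_one_right a] at this
      rcases hc i (by
        have := congrArg (t * ·) this
        simpa only [← mul_assoc, ht, one_mul] using this) with c | c
      · exact absurd c b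
      · exact absurd (c ▸ IsConj.refl _) e
  · have := inv x hx
    rw [inv_eq_of_mul_eq_one_right e] at this
    rcases hc x (by
      have := congrArg (t * ·) this
      simpa only [← mul_assoc, ht, one_mul] using this) with c | c
    · exact c
    · exact absurd (c ▸ IsConj.refl _) hx

variable {G : Type*} [Group G] [Fintype G] {t : G} {Φ : KK5 →* G}

theorem pow_of_inv (h : JS t Φ) {i x : G} (hi : i * i = 1) (h1 : i ≠ 1) (e : x * i = i * x) :
    x ^ 30 = 1 := by
  obtain ⟨c, rfl⟩ := isConj_iff.mp (h.one i hi h1)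
  obtain ⟨k, hk⟩ := h.mem (g := c⁻¹ * x * c) (by
    rw [show c⁻¹ * x * c * t = c⁻¹ * (x * (c * t * c⁻¹)) * c by group, e]; group)
  rw [show x = c * (c⁻¹ * x * c) * c⁻¹ by group, conj_pow, ← hk, ← map_pow, pow30]
  simp

theorem ne_of (h : JS t Φ) {a b : KK5} (e : a ≠ b) : Φ a ≠ Φ b := fun c => e (h.inj c)

theorem ne_one (h : JS t Φ) {a : KK5} (e : a ≠ 1) : Φ a ≠ 1 := fun c =>
  e ((map_eq_one_iff Φ h.inj).mp c)

/-- a normal subgroup which avoids the involutions is trivial -/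
theorem normal_eq_bot (h : JS t Φ) (N : Subgroup G) [hN : N.Normal] (ht : t ∉ N) : N = ⊥ := by
  have ni : ∀ i, i * i = 1 → i ≠ 1 → i ∉ N := fun i a b c => by
    obtain ⟨g, rfl⟩ := isConj_iff.mp (h.one i a b)
    exact ht (by simpa [mul_assoc] using hN.conj_mem _ c g⁻¹)
  have c1 : ∀ n ∈ N, n * t = t * n → n = 1 := by
    intro n hn e
    obtain ⟨k, rfl⟩ := h.mem e
    rcases ((hN.comap Φ).comap (MonoidHom.inr _ A5)).eq_bot_or_eq_top with a | a
    · have : k.2 = 1 := by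
        refine (Subgroup.mem_bot.mp ((alternatingGroup.center_eq_bot (α := Fin 5) (by simp)) ▸
          mem_center_iff.mpr fun y => ?_))
        have : y * k.2 * y⁻¹ * k.2⁻¹ ∈ (N.comap Φ).comap (MonoidHom.inr _ A5) := by
          have := (N.comap Φ).mul_mem ((hN.comap Φ).conj_mem k hn (1, y)) ((N.comap Φ).inv_mem hn)
          rw [mem_comap]
          convert this using 1
          ext <;> simp
        rw [a, Subgroup.mem_bot] at this
        rw [mul_inv_eq_one, mul_inv_eq_iff_eq_mul] at this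
        exact this
      rcases o2_cases k.1 with b | b
      · rw [show k = 1 from Prod.ext b this, map_one]
      · exact absurd (h.tau ▸ (show k = tau from Prod.ext b this) ▸ hn) ht
    · have : Φ ka ∈ N := (a ▸ mem_top v5 : v5 ∈ (N.comap Φ).comap (MonoidHom.inr _ A5))
      exact absurd this (ni _ (by rw [← map_mul, show ka * ka = 1 from ph_sq 2, map_one])
        (ne_one h (by decide)))
  have c2 : ∀ i, i * i = 1 → i ≠ 1 → ∀ n ∈ N, i * n * i⁻¹ = n⁻¹ := by
    intro i a b n hn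
    obtain ⟨g, rfl⟩ := isConj_iff.mp (h.one i a b)
    have := MonoidHom.FixedPointFree.coe_eq_inv_of_involutive
      (φ := (MulAut.conjNormal (H := N) (g * t * g⁻¹) : N ≃* N)) (fun x hx => by
        have hx : g * t * g⁻¹ * x * (g * t * g⁻¹)⁻¹ = x := congrArg Subtype.val hx
        have := c1 (g⁻¹ * x * g) (by simpa using hN.conj_mem _ x.2 g⁻¹) (by
          conv_lhs => rw [← hx]
          rw [show g⁻¹ * (g * t * g⁻¹ * x * (g * t * g⁻¹)⁻¹) * g * t = t * (g⁻¹ * x * g) by group])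
        exact Subtype.ext (by rw [show x.1 = g * (g⁻¹ * x * g) * g⁻¹ by group, this]; simp))
      (fun x => Subtype.ext (by
        simp only [MulAut.conjNormal_apply]
        rw [show ∀ i : G, i * (i * x * i⁻¹) * i⁻¹ = (i * i) * x * (i * i)⁻¹ from fun i => by group, a]
        simp))
    exact congrArg Subtype.val (congrFun this ⟨n, hn⟩)
  refine eq_bot_iff.mpr fun n hn => ?_
  have s : ∀ m, Φ (ph m) * Φ (ph m) = 1 := fun m => by rw [← map_mul, ph_sq, map_one]
  have e1 := c2 _ (s 1) (ne_one h (by decide)) _ (N.inv_mem hn)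
  have e2 := c2 _ (s 2) (ne_one h (by decide)) n hn
  have e3 := c2 _ (s 3) (ne_one h (by decide)) n hn
  rw [show ph 3 = ph 1 * ph 2 from rfl, map_mul,
    show ∀ a b : G, a * b * n * (a * b)⁻¹ = a * (b * n * b⁻¹) * a⁻¹ from fun a b => by group, e2, e1,
    inv_inv] at e3
  by_contra c
  exact ni n (by nth_rw 1 [e3]; simp) c hn

/-- the Sylow subgroup -/
abbrev TT (Φ : KK5 →* G) : Subgroup G := V8.map Φ

theorem mem_TT {x : G} : x ∈ TT Φ ↔ ∃ n, Φ (ph n) = x := by
  constructor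
  · rintro ⟨k, hk, rfl⟩
    obtain ⟨n, rfl⟩ := ph_surj k (mem_centralizer_singleton_iff.mp hk)
    exact ⟨n, rfl⟩
  · rintro ⟨n, rfl⟩
    exact ⟨ph n, mem_centralizer_singleton_iff.mpr (ph_mem n), rfl⟩

theorem card_TT (h : JS t Φ) : Nat.card (TT Φ) = 8 := by
  rw [card_map_of_injective h.inj, card_V8]

theorem exists_sylow {H : Type*} [Group H] [Finite H] {p k m : ℕ} [hp : Fact p.Prime]
    (hc : Nat.card H ∣ p ^ k * m) (hm : ¬ p ∣ m) {T : Subgroup H} (hT : Nat.card T = p ^ k) :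
    ∃ P : Sylow p H, (P : Subgroup H) = T := by
  refine ⟨IsPGroup.toSylow (IsPGroup.of_card hT) fun e => hm ?_, rfl⟩
  rw [← T.card_mul_index, hT] at hc
  exact e.trans (Nat.dvd_of_mul_dvd_mul_left (pow_pos hp.out.pos k) hc)

theorem TT_comm : IsMulCommutative (TT Φ) := ⟨⟨fun a b => Subtype.ext (by
  obtain ⟨m, hm⟩ := mem_TT.mp a.2
  obtain ⟨n, hn⟩ := mem_TT.mp b.2
  rw [coe_mul, coe_mul, ← hm, ← hn, ← map_mul, ← map_mul, ← ph_mul, ← ph_mul, Fin.xor_comm])⟩⟩

theorem mem_norm_TT {k : KK5} (hk : k * ka * k⁻¹ * ka = ka * (k * ka * k⁻¹)) :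
    Φ k ∈ normalizer (TT Φ : Set G) := by
  refine mem_normalizer_fintype fun x hx => ?_
  obtain ⟨n, rfl⟩ := mem_TT.mp hx
  exact ⟨_, mem_centralizer_singleton_iff.mpr (norm_of k hk n), by simp⟩

theorem sylow_TT (h : JS t Φ) : ∃ P : Sylow 2 G, (P : Subgroup G) = TT Φ := by
  obtain ⟨P, hP⟩ := (IsPGroup.of_card (p := 2) (n := 3) (card_TT h)).exists_le_sylow
  refine ⟨P, (eq_of_le_of_card_ge hP ?_).symm⟩
  have : Nontrivial (P : Subgroup G) := ⟨⟨⟨t, hP (mem_TT.mpr ⟨1, h.tau⟩)⟩, 1,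
    fun e => h.t1 (congrArg Subtype.val e)⟩⟩
  have := P.2.center_nontrivial
  obtain ⟨n, hn⟩ := IsPGroup.iff_card.mp (P.2.to_subgroup (center (P : Subgroup G)))
  obtain ⟨z, hz⟩ := exists_prime_orderOf_dvd_card' (G := center (P : Subgroup G)) 2 (by
    rw [hn]
    refine dvd_pow_self 2 ?_
    rintro rfl
    exact absurd hn Finite.one_lt_card.ne')
  rw [← orderOf_coe, ← orderOf_coe] at hz
  obtain ⟨c, hc⟩ := isConj_iff.mp (h.one z.1.1 (by
    have := pow_orderOf_eq_one z.1.1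
    rwa [hz, pow_two] at this) fun e => by rw [e, orderOf_one] at hz; omega)
  have a : ((P : Subgroup G).map (MulAut.conj c⁻¹).toMonoidHom) ≤ Φ.range := by
    rintro _ ⟨x, hx, rfl⟩
    have e : x * z.1.1 = z.1.1 * x := congrArg Subtype.val (mem_center_iff.mp z.2 ⟨x, hx⟩)
    refine h.mem ?_
    show c⁻¹ * x * c⁻¹⁻¹ * t = t * (c⁻¹ * x * c⁻¹⁻¹)
    rw [show c⁻¹ * x * c⁻¹⁻¹ * t = c⁻¹ * (x * (c * t * c⁻¹)) * c by group, hc, e, ← hc]; group
  have b := card_dvd_of_le a
  rw [card_map_of_injective (MulAut.conj c⁻¹).injective, ← Nat.card_congr (MonoidHom.ofInjective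
    h.inj).toEquiv, card_K] at b
  obtain ⟨k, hk⟩ := IsPGroup.iff_card.mp P.2
  rw [card_TT h, hk]
  rw [hk] at b
  by_contra d
  have : 4 ≤ k := by
    by_contra d'
    exact d ((Nat.pow_le_pow_right (by decide) (show k ≤ 3 by omega)).trans (by decide))
  exact absurd ((pow_dvd_pow 2 this).trans b) (by decide)

theorem card_norm_TT (h : JS t Φ) :
    Nat.card (normalizer (TT Φ : Set G)) = 168 := by
  have htT : t ∈ TT Φ := mem_TT.mpr ⟨1, h.tau⟩
  have e := H8.card_centralizer_mul_card_conj (⟨t, le_normalizer htT⟩ : normalizer (TT Φ : Set G))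
  obtain ⟨P, hP⟩ := sylow_TT h
  have e1 : Nat.card {y : normalizer (TT Φ : Set G) // IsConj ⟨t, le_normalizer htT⟩ y} = 7 := by
    rw [← show Nat.card {n : Fin 8 // n ≠ 0} = 7 by simp]
    symm
    refine Nat.card_eq_of_bijective (fun n => ⟨⟨Φ (ph n), le_normalizer (mem_TT.mpr ⟨n, rfl⟩)⟩, ?_⟩)
      ⟨fun a b c => Subtype.ext (ph_inj _ _ (h.inj (congrArg (fun z => z.1.1) c))), ?_⟩
    · obtain ⟨c, hc⟩ := isConj_iff.mp (h.one (Φ (ph n)) (by rw [← map_mul, ph_sq, map_one])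
        (ne_one h fun c => n.2 (ph_inj _ 0 c)))
      have : IsMulCommutative (P : Subgroup G) := hP ▸ TT_comm
      obtain ⟨m, hm, e⟩ := P.conj_eq_normalizer_conj_of_mem t c⁻¹
        (show t ∈ (P : Subgroup G) from hP ▸ htT) (by
        show _ ∈ (P : Subgroup G)
        rw [inv_inv, hc, hP]; exact mem_TT.mpr ⟨n, rfl⟩)
      refine isConj_iff.mpr ⟨⟨m⁻¹, inv_mem (hP ▸ hm)⟩, Subtype.ext ?_⟩
      simp only [coe_mul, coe_inv, inv_inv] at e ⊢
      rw [← e, hc]
    · rintro ⟨y, hy⟩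
      obtain ⟨c, rfl⟩ := isConj_iff.mp hy
      obtain ⟨n, hn⟩ := mem_TT.mp ((mem_normalizer_iff.mp c.2 t).mp htT)
      refine ⟨⟨n, ?_⟩, Subtype.ext (Subtype.ext hn)⟩
      rintro rfl
      rw [show ph 0 = 1 from rfl, map_one, eq_comm, conj_eq_one_iff] at hn
      exact h.t1 hn
  have e2 : Nat.card (centralizer ({⟨t, le_normalizer htT⟩} : Set (normalizer (TT Φ : Set G)))) =
      24 := by
    rw [← card_norm, ← Fintype.card_subtype, ← Nat.card_eq_fintype_card]
    symm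
    refine Nat.card_eq_of_bijective (fun k => ⟨⟨Φ k, mem_norm_TT k.2⟩,
      mem_centralizer_singleton_iff.mpr (Subtype.ext (h.comm k).symm)⟩)
      ⟨fun a b c => Subtype.ext (h.inj (congrArg (fun z => z.1.1) c)), ?_⟩
    rintro ⟨y, hy⟩
    obtain ⟨k, hk⟩ := h.mem (congrArg Subtype.val (mem_centralizer_singleton_iff.mp hy))
    refine ⟨⟨k, ?_⟩, Subtype.ext (Subtype.ext hk)⟩
    obtain ⟨n, hn⟩ := mem_TT.mp ((mem_normalizer_iff.mp y.2 _).mp (mem_TT.mpr ⟨2, rfl⟩))
    rw [← hk, ← map_inv, ← map_mul, ← map_mul] at hn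
    rw [← show ph n = k * ka * k⁻¹ from h.inj hn]
    exact ph_mem n
  rw [← e, e1, e2]

theorem kr3 : Φ kr ^ 3 = 1 := by rw [← map_pow, show kr ^ 3 = 1 by decide, map_one]

theorem not_comm7 (h : JS t Φ) {g i : G} (g7 : g ^ 7 = 1) (g1 : g ≠ 1) (hi : i * i = 1)
    (h1 : i ≠ 1) : g * i ≠ i * g := fun e => g1 (by
  have := pow_of_inv h hi h1 e
  simpa using pow_gcd_eq_one.mpr ⟨g7, this⟩)

theorem fix7 {N : Type*} [Group N] [Finite N] (hN : Nat.card N = 168) {ρ : N} (h3 : ρ ^ 3 = 1)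
    (h1 : ρ ≠ 1) : ∃ σ : N, σ ^ 7 = 1 ∧ σ ≠ 1 ∧ ∃ k : Fin 7, ρ * σ * ρ⁻¹ = σ ^ (k : ℕ) := by
  have := Fact.mk (show Nat.Prime 7 by decide)
  have := Fact.mk Nat.prime_three
  have hρ : IsPGroup 3 (zpowers ρ) := IsPGroup.of_card (n := 1) (by
    rw [Nat.card_zpowers, pow_one]
    exact orderOf_eq_prime h3 h1)
  have c7 : ∀ P : Sylow 7 N, Nat.card (P : Subgroup N) = 7 := fun P => by
    rw [P.card_eq_multiplicity, hN, show 168 = 7 * 24 from rfl,
      Nat.factorization_mul_apply_of_coprime (by decide), Nat.Prime.factorization_self (by decide),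
      Nat.factorization_eq_zero_of_not_dvd (by decide)]
    rfl
  obtain ⟨P, hP⟩ := hρ.nonempty_fixed_point_of_prime_not_dvd_card (Sylow 7 N) (by
      obtain ⟨P⟩ := (inferInstance : Nonempty (Sylow 7 N))
      have a := P.card_dvd_index
      have b := card_sylow_modEq_one 7 N
      have c := (P : Subgroup N).card_mul_index
      rw [c7, hN] at c
      rw [show (P : Subgroup N).index = 24 by omega] at a
      have d := Nat.le_of_dvd (by decide) a
      generalize Nat.card (Sylow 7 N) = n at a b d ⊢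
      unfold Nat.ModEq at b
      have : n = 1 ∨ n = 8 ∨ n = 15 ∨ n = 22 := by omega
      rcases this with rfl | rfl | rfl | rfl <;> omega)
  obtain ⟨x, hx, x1, ox, zx⟩ := H8.exists_generator_of_card_prime (c7 P)
  have := (mem_normalizer_iff.mp (Sylow.smul_eq_iff_mem_normalizer.mp (hP ⟨ρ, mem_zpowers ρ⟩)) x).mp hx
  change _ ∈ (P : Subgroup N) at this
  classical
  rw [← zx, mem_zpowers_iff_mem_range_orderOf, ox, Finset.mem_image] at this
  obtain ⟨k, hk, e⟩ := this
  exact ⟨x, ox ▸ pow_orderOf_eq_one x, x1, ⟨k, Finset.mem_range.mp hk⟩, e.symm⟩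

/-- an element of order seven normalized by `kr` -/
theorem exists_sigma (h : JS t Φ) : ∃ σ ∈ normalizer (TT Φ : Set G),
    σ ^ 7 = 1 ∧ σ ≠ 1 ∧ ∃ k : Fin 7, Φ kr * σ * (Φ kr)⁻¹ = σ ^ (k : ℕ) := by
  obtain ⟨x, a, b, k, e⟩ := fix7 (card_norm_TT h) (ρ := ⟨Φ kr, mem_norm_TT (by decide)⟩)
    (Subtype.ext kr3) fun e => ne_one h (by decide) (congrArg Subtype.val e)
  exact ⟨x, x.2, congrArg Subtype.val a, fun e => b (Subtype.ext e), k, congrArg Subtype.val e⟩

/-- the relations of the normalizer of the Sylow subgroup -/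
structure RG (t : G) (Φ : KK5 →* G) (g : G) : Prop where
  g7 : g ^ 7 = 1
  gt : g * t * g⁻¹ = Φ ka
  ga : g * Φ ka * g⁻¹ = Φ (ka * kb)
  gb : g * Φ kb * g⁻¹ = t * Φ kb
  rg : Φ kr * g * (Φ kr)⁻¹ = g ^ 4

theorem js_comp (h : JS t Φ) : JS t (Φ.comp alK.toMonoidHom) :=
  ⟨h.inj.comp alK.injective, by simp [alK_val.1, h.tau], by
    rw [h.cen, MonoidHom.range_comp, (MonoidHom.range_eq_top (f := alK.toMonoidHom)).mpr alK.surjective,
      MonoidHom.range_eq_map], h.one⟩

theorem exists_RG (h : JS t Φ) : ∃ (Ψ : KK5 →* G) (g : G), JS t Ψ ∧ RG t Ψ g := by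
  obtain ⟨σ, hσ, s7, s1, k, hk⟩ := exists_sigma h
  choose F hF using fun n => mem_TT.mp ((mem_normalizer_iff.mp hσ _).mp (mem_TT.mpr ⟨n, rfl⟩))
  have inj : ∀ m n, Φ (ph m) = Φ (ph n) → m = n := fun m n e => ph_inj m n (h.inj e)
  have e0 := eq_lin (F := F) (inj _ _ (by rw [hF, show ph 0 = 1 from rfl]; simp)) fun m n =>
    inj _ _ (by rw [hF, ph_mul, ph_mul, map_mul, map_mul, hF, hF]; group)
  have it : ∀ (i : ℕ) n, Φ (ph (F^[i] n)) = σ ^ i * Φ (ph n) * (σ ^ i)⁻¹ := by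
    intro i n
    induction i with
    | zero => simp
    | succ i ih => rw [Function.iterate_succ_apply', hF, ih, pow_succ']; group
  have p1 : Φ (ph 1) = t := h.tau
  obtain ⟨i, a1, a2⟩ := singer (F 1) (F 2) (F 4) (fun e => not_comm7 h s7 s1 h.t2 h.t1 (by
      have := hF 1
      rw [e, p1] at this
      rw [eq_mul_inv_iff_mul_eq] at this
      exact this.symm)) (by rw [← e0]; exact inj _ _ (by rw [it, s7]; simp)) k fun n => by
    rw [← e0]
    refine inj _ _ ?_
    rw [it, ← hk, ← ph_rr, ← ph_rr, map_mul, map_mul, map_mul, map_mul, hF, map_inv]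
    group
  rw [← e0] at a1 a2
  have b := it i
  have b1 := b 1
  have b2 := b 2
  have b4 := b 4
  have g7 : (σ ^ (i : ℕ)) ^ 7 = 1 := by rw [← pow_mul, mul_comm, pow_mul, s7, one_pow]
  have rk : Φ kr * σ ^ (i : ℕ) * (Φ kr)⁻¹ = (σ ^ (i : ℕ)) ^ (k : ℕ) := by
    rw [← conj_pow, hk, ← pow_mul, ← pow_mul, mul_comm]
  rw [a1, p1] at b1
  rcases a2 with ⟨a2, a4, rfl⟩ | ⟨a2, a4, rfl⟩ <;> rw [a2] at b2 <;> rw [a4] at b4
  · exact ⟨Φ, σ ^ (i : ℕ), h, g7, b1.symm, b2.symm, b4.symm.trans (by rw [← h.tau, ← map_mul]; rfl), rk⟩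
  · obtain ⟨c1, c2, c3, c4⟩ := alK_val
    refine ⟨_, σ ^ (i : ℕ), js_comp h, g7, ?_, ?_, ?_, ?_⟩ <;>
      simp only [MonoidHom.comp_apply, MulEquiv.coe_toMonoidHom, map_mul, c2, c3, c4, map_inv]
    · exact b1.symm
    · rw [← mul_assoc, ← map_mul, show ka * ka = 1 from ph_sq 2, map_one, one_mul]; exact b2.symm
    · rw [show ∀ s a b : G, s * (a * b) * s⁻¹ = (s * a * s⁻¹) * (s * b * s⁻¹) from fun s a b => by
        group]
      refine (congrArg₂ (· * ·) b2.symm b4.symm).trans ?_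
      rw [← h.tau, ← map_mul, ← map_mul, ← map_mul]
      exact congrArg Φ (by decide)
    · have rk : Φ kr * σ ^ (i : ℕ) * (Φ kr)⁻¹ = (σ ^ (i : ℕ)) ^ 2 := rk
      generalize σ ^ (i : ℕ) = g at *
      have : Φ kr * g ^ 4 * (Φ kr)⁻¹ = g := by
        rw [← conj_pow, rk, ← pow_mul, show 2 * 4 = 7 + 1 from rfl, pow_succ, g7, one_mul]
      conv_lhs => rw [← this]
      group

theorem RG.g1 (h : JS t Φ) {g : G} (r : RG t Φ g) : g ≠ 1 := by
  rintro rfl
  have := r.gt
  rw [one_mul, inv_one, mul_one, ← h.tau] at this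
  exact ne_of h (by decide) this

theorem exists_inv_of_even {H : Subgroup G} (h : 2 ∣ Nat.card H) :
    ∃ i ∈ H, i * i = 1 ∧ i ≠ 1 := by
  obtain ⟨x, hx⟩ := exists_prime_orderOf_dvd_card' 2 h
  refine ⟨x, x.2, ?_, fun e => ?_⟩
  · rw [← pow_two, ← coe_pow, ← hx, pow_orderOf_eq_one, coe_one]
  · rw [show x = 1 from Subtype.ext e, orderOf_one] at hx; omega

set_option synthInstance.maxSize 1000 in
theorem num7 : ∀ c < 1046, c ∣ 1045 → ∀ m < 7, m ∣ 6 → 3 ∣ m →
    175560 / (7 * c * m) % 7 = 1 → c = 1 ∧ m = 6 ∨ 175560 / (7 * c * m) = 8 := by decide +kernel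

theorem exists_j (h : JS t Φ) (hc : Nat.card G = 175560) {g : G} (r : RG t Φ g) :
    Nat.card (Sylow 7 G) = 4180 ∧
      ∃ j, j * j = 1 ∧ j * g * j * g = 1 ∧ j * Φ kr = Φ kr * j := by
  have := Fact.mk (show Nat.Prime 7 by decide)
  have g1 := r.g1 h
  have og : orderOf g = 7 := orderOf_eq_prime r.g7 g1
  have cz : Nat.card (zpowers g) = 7 := by rw [Nat.card_zpowers, og]
  obtain ⟨P, hP⟩ := exists_sylow (p := 7) (k := 1) (m := 25080) (by rw [hc]; decide) (by decide) cz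
  have ab : IsMulCommutative (P : Subgroup G) := hP ▸ inferInstance
  have e := H8.card_eq_card_sylow_mul P ab
  have m6 := H8.relIndex_centralizer_dvd_of_card_prime _ cz
  have n7 := card_sylow_modEq_one 7 G
  have nN := P.card_eq_index_normalizer
  change _ = (normalizer ((P : Subgroup G) : Set G)).index at nN
  rw [hP, hc, cz] at e
  rw [hP] at nN
  have cC : Nat.card (centralizer (zpowers g : Set G)) =
      7 * (zpowers g).relIndex (centralizer (zpowers g : Set G)) := by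
    rw [← cz, relIndex, ← ((zpowers g).subgroupOf _).card_mul_index,
      Nat.card_congr (subgroupOfEquivOfLe (hP ▸ P.le_centralizer)).toEquiv]
  have cN : Nat.card (normalizer (zpowers g : Set G)) = Nat.card (centralizer (zpowers g : Set G)) *
      (centralizer (zpowers g : Set G)).relIndex (normalizer (zpowers g : Set G)) := by
    rw [relIndex, ← ((centralizer (zpowers g : Set G)).subgroupOf _).card_mul_index,
      Nat.card_congr (subgroupOfEquivOfLe (centralizer_le_normalizer _)).toEquiv]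
  have mc : ∀ {x}, x ∈ centralizer (zpowers g : Set G) ↔ x * g = g * x := by
    intro x; rw [H8.centralizer_zpowers, mem_centralizer_singleton_iff]
  have rN : Φ kr ∈ normalizer (zpowers g : Set G) := by
    refine inv_mem_iff.mp ((H8.mem_normalizer_zpowers_iff _ _).mpr ?_)
    rw [inv_inv, r.rg]; exact pow_mem (mem_zpowers g) 4
  have rC : ¬ Φ kr * g = g * Φ kr := fun e => g1 (by
    have a := r.rg
    rw [e, mul_inv_cancel_right, show 4 = 1 + 3 from rfl, pow_add, pow_one, left_eq_mul] at a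
    simpa using pow_gcd_eq_one.mpr ⟨r.g7, a⟩)
  have c2 : ¬ 2 ∣ Nat.card (centralizer (zpowers g : Set G)) := fun e => by
    obtain ⟨i, hi, a, b⟩ := exists_inv_of_even e
    exact not_comm7 h r.g7 g1 a b (mc.mp hi).symm
  have m3 : 3 ∣ (centralizer (zpowers g : Set G)).relIndex (normalizer (zpowers g : Set G)) := by
    by_contra e
    have := (normalizerMonoidHom_ker (zpowers g)) ▸ (normalizerMonoidHom (zpowers g)).normal_ker
    have a := pow_index_mem ((centralizer (zpowers g : Set G)).subgroupOf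
      (normalizer (zpowers g : Set G))) ⟨_, rN⟩
    rw [mem_subgroupOf, coe_pow, pow_eq_pow_mod _ kr3] at a
    change Φ kr ^ ((centralizer (zpowers g : Set G)).relIndex _ % 3) ∈ _ at a
    have : ∀ n, ¬ 3 ∣ n → n % 3 = 1 ∨ n % 3 = 2 := by omega
    rcases this _ e with b | b <;> rw [b] at a
    · exact rC (mc.mp (by simpa using a))
    · have := mul_mem a a
      rw [← pow_add, show 2 + 2 = 3 + 1 from rfl, pow_succ, kr3, one_mul] at this
      exact rC (mc.mp this)
  generalize (zpowers g).relIndex (centralizer (zpowers g : Set G)) = c at *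
  generalize (centralizer (zpowers g : Set G)).relIndex (normalizer (zpowers g : Set G)) = m at *
  have e' : 175560 / (7 * c * m) = Nat.card (Sylow 7 G) := by
    rw [e]
    refine Nat.div_eq_of_eq_mul_left (Nat.pos_of_ne_zero fun z => ?_) (by ring)
    rw [mul_assoc, mul_assoc, ← mul_assoc 7, z] at e; omega
  have c1 : c ∣ 1045 := by
    obtain ⟨m', rfl⟩ := m3
    have a : c ∣ 2 ^ 3 * 1045 := Nat.dvd_of_mul_dvd_mul_left (show 0 < 21 by decide)
      ⟨Nat.card (Sylow 7 G) * m', by rw [show 21 * (2 ^ 3 * 1045) = 175560 from rfl, e]; ring⟩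
    refine Nat.Coprime.dvd_of_dvd_mul_left (Nat.Coprime.pow_right 3 ?_) a
    rw [Nat.coprime_two_right, ← Nat.not_even_iff_odd, even_iff_two_dvd]
    exact fun z => c2 (cC ▸ z.mul_left 7)
  rcases num7 c (Nat.lt_succ_of_le (Nat.le_of_dvd (by decide) c1)) c1 m
    (Nat.lt_succ_of_le (Nat.le_of_dvd (by decide) m6)) m6 m3 (by rw [e']; exact n7) with
    ⟨rfl, rfl⟩ | a
  · obtain ⟨i, hi, i2, i1⟩ := exists_inv_of_even (H := normalizer (zpowers g : Set G))
      (by rw [cN]; exact Dvd.intro_left (_ * 3) (by ring))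
    have eC : centralizer (zpowers g : Set G) = zpowers g :=
      (eq_of_le_of_card_ge (hP ▸ P.le_centralizer) (by rw [cC, cz])).symm
    have pw : ∀ x ∈ zpowers g, ∃ k < 7, g ^ k = x := by
      classical
      intro x hx
      rw [mem_zpowers_iff_mem_range_orderOf, og, Finset.mem_image] at hx
      obtain ⟨k, hk, e⟩ := hx
      exact ⟨k, Finset.mem_range.mp hk, e⟩
    have ii : i⁻¹ = i := inv_eq_of_mul_eq_one_right i2
    obtain ⟨k, hk, ek⟩ := pw _ ((mem_normalizer_iff.mp hi g).mp (mem_zpowers g))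
    have k6 : k = 6 := by
      have a : g ^ (k * k) = g ^ 1 := by
        rw [pow_mul, ek, conj_pow, ek, ii, pow_one,
          show i * (i * g * i) * i = (i * i) * g * (i * i) by group, i2, one_mul, mul_one]
      rw [pow_eq_pow_iff_modEq, og] at a
      have : k ≠ 1 := by
        rintro rfl
        rw [pow_one, eq_mul_inv_iff_mul_eq] at ek
        exact not_comm7 h r.g7 g1 i2 i1 ek
      unfold Nat.ModEq at a
      interval_cases k <;> simp_all
    have ig : i * g * i = g⁻¹ := by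
      rw [ii] at ek
      rw [← ek, k6]; exact eq_inv_of_mul_eq_one_left (by rw [← pow_succ, r.g7])
    have igk : ∀ n : ℕ, i * g ^ n * i = (g ^ n)⁻¹ := fun n => by
      rw [← inv_pow, ← ig]; nth_rw 2 4 [← ii]; rw [conj_pow]
    have r2 : (Φ kr)⁻¹ * g * Φ kr = g ^ 2 := by
      have : Φ kr * g ^ 2 * (Φ kr)⁻¹ = g := by
        rw [← conj_pow, r.rg, ← pow_mul, show 4 * 2 = 7 + 1 from rfl, pow_succ, r.g7, one_mul]
      conv_lhs => rw [← this]
      group
    obtain ⟨n, -, en⟩ := pw (i * (Φ kr * i * (Φ kr)⁻¹)) (eC ▸ mc.mpr (by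
      have a : Φ kr * i * (Φ kr)⁻¹ * g * (Φ kr * i * (Φ kr)⁻¹) = g⁻¹ := by
        rw [show Φ kr * i * (Φ kr)⁻¹ * g * (Φ kr * i * (Φ kr)⁻¹) =
          Φ kr * (i * ((Φ kr)⁻¹ * g * Φ kr) * i) * (Φ kr)⁻¹ by group, r2, igk, ← r2]
        group
      have b : (Φ kr * i * (Φ kr)⁻¹) * (Φ kr * i * (Φ kr)⁻¹) = 1 := by
        rw [show Φ kr * i * (Φ kr)⁻¹ * (Φ kr * i * (Φ kr)⁻¹) = Φ kr * (i * i) * (Φ kr)⁻¹ by group, i2]
        simp
      generalize Φ kr * i * (Φ kr)⁻¹ = i' at *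
      rw [show i * i' * g = i * (i' * g * i') * i'⁻¹ by group, a, inv_eq_of_mul_eq_one_right b,
        show g * (i * i') = i⁻¹ * (i * g * i) * i' by group, ig, ii]))
    refine ⟨e'.symm, i * g ^ (2 * n), ?_, ?_, ?_⟩
    · rw [← mul_assoc, igk, inv_mul_cancel]
    · rw [show i * g ^ (2 * n) * g * (i * g ^ (2 * n)) * g =
        (i * g ^ (2 * n + 1) * i) * g ^ (2 * n + 1) by group, igk, inv_mul_cancel]
    · have a : Φ kr * i * (Φ kr)⁻¹ = i * g ^ n := by rw [en, ← mul_assoc, i2, one_mul]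
      rw [← mul_inv_eq_iff_eq_mul.mp (show Φ kr * (i * g ^ (2 * n)) * (Φ kr)⁻¹ = i * g ^ (2 * n) from ?_)]
      rw [show Φ kr * (i * g ^ (2 * n)) * (Φ kr)⁻¹ =
        (Φ kr * i * (Φ kr)⁻¹) * (Φ kr * g ^ (2 * n) * (Φ kr)⁻¹) by group, a, ← conj_pow, r.rg,
        ← pow_mul, mul_assoc, ← pow_add, show n + 4 * (2 * n) = 7 * n + 2 * n by ring, pow_add,
        pow_mul, r.g7, one_pow, one_mul]
  · exfalso
    rw [e'] at a
    have odd : ¬ 2 ∣ Nat.card (normalizer (zpowers g : Set G)) := by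
      have := (normalizer (zpowers g : Set G)).card_mul_index
      rw [← nN, a, hc] at this
      omega
    have := normal_eq_bot h (normalizer (zpowers g : Set G)).normalCore fun z => odd (by
      have := orderOf_dvd_natCard (⟨t, normalCore_le _ z⟩ : normalizer (zpowers g : Set G))
      rwa [← orderOf_coe, orderOf_eq_prime (by rw [pow_two]; exact h.t2) h.t1] at this)
    rw [normalCore_eq_ker, MonoidHom.ker_eq_bot_iff] at this
    have b := Nat.card_le_card_of_injective _ this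
    rw [hc, Nat.card_perm, ← index_eq_card, ← nN, a] at b
    exact absurd b (by decide)

theorem RG.tj (h : JS t Φ) {g j : G} (r : RG t Φ g) (j2 : j * g * j * g = 1) : j ≠ t := by
  rintro rfl
  have a : (g ^ 2)⁻¹ = j * Φ ka := by
    rw [← r.gt, show j * (g * j * g⁻¹) = (j * g * j) * g⁻¹ by group, eq_inv_of_mul_eq_one_left j2]
    group
  have b : g ^ 4 = 1 := by
    rw [show 4 = 2 + 2 from rfl, pow_add, ← inv_eq_one, mul_inv_rev, a, ← h.tau, ← map_mul, ← map_mul]
    exact (congrArg Φ (ph_sq 3)).trans (map_one Φ)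
  exact r.g1 h (by simpa using pow_gcd_eq_one.mpr ⟨r.g7, b⟩)

theorem exists_compl {X : Type*} [Group X] [Finite X] {ρ : X} (h3 : ρ ^ 3 = 1) (h1 : ρ ≠ 1)
    (hc : ∀ x, Commute x ρ) {m : ℕ} (hm : Nat.card X ∣ 3 ^ 1 * m) (hm3 : ¬ 3 ∣ m) :
    ∃ Y : Subgroup X, (∀ x, x * x = 1 → x ∈ Y) ∧ ∀ x ∈ Y, x ^ 3 = 1 → x = 1 := by
  have := Fact.mk Nat.prime_three
  have cρ : Nat.card (zpowers ρ) = 3 ^ 1 := by
    rw [Nat.card_zpowers, pow_one]
    exact orderOf_eq_prime h3 h1
  obtain ⟨P, hP⟩ := exists_sylow hm hm3 cρ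
  have hN : normalizer (P : Set X) ≤ centralizer (P : Set X) := fun x _ y hy => by
    change y ∈ (P : Subgroup X) at hy
    rw [hP] at hy
    obtain ⟨n, rfl⟩ := hy
    exact (Commute.zpow_right (hc x) n).symm
  rw [← hP] at cρ
  refine ⟨(MonoidHom.transferSylow P hN).ker, fun x hx => ?_, fun x hx e => ?_⟩
  · have a : MonoidHom.transferSylow P hN x ^ 2 = 1 := by rw [pow_two, ← map_mul, hx, map_one]
    have b := pow_card_eq_one' (x := MonoidHom.transferSylow P hN x)
    rw [cρ] at b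
    simpa using pow_gcd_eq_one.mpr ⟨a, b⟩
  · by_contra c
    have := orderOf_dvd_natCard (⟨x, hx⟩ : (MonoidHom.transferSylow P hN).ker)
    rw [← orderOf_coe, orderOf_eq_prime e c] at this
    exact MonoidHom.not_dvd_card_ker_transferSylow P hN this

theorem exists_A (h : JS t Φ) (hc : Nat.card G = 175560) : ∃ A : Subgroup G,
    (∀ x ∈ A, t * x * t = x⁻¹) ∧ (∀ i, i * i = 1 → i ≠ 1 → i * Φ kr = Φ kr * i → t * i ∈ A) ∧
      (∀ x ∈ A, x * x = 1 → x = 1) ∧ ∀ x ∈ A, x ^ 3 = 1 → x = 1 := by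
  have mX : ∀ {x}, x ∈ centralizer ({Φ kr} : Set G) ↔ x * Φ kr = Φ kr * x :=
    mem_centralizer_singleton_iff
  obtain ⟨Y, y2, y3⟩ := exists_compl (X := centralizer ({Φ kr} : Set G)) (ρ := ⟨Φ kr, mX.mpr rfl⟩)
    (Subtype.ext kr3) (fun e => ne_one h (by decide) (congrArg Subtype.val e))
    (fun x => Subtype.ext (mX.mp x.2)) (m := 58520) (by
      rw [show 3 ^ 1 * 58520 = 175560 from rfl, ← hc]; exact card_subgroup_dvd_card _) (by decide)
  obtain ⟨A, a1, a2, a3⟩ := exists_inverted (Y := Y)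
    (t := ⟨⟨t, mX.mpr (h.comm kr)⟩, y2 _ (Subtype.ext h.t2)⟩) (Subtype.ext (Subtype.ext h.t2))
    (fun e => h.t1 (congrArg (fun z => z.1.1) e)) fun y e => by
      obtain ⟨k, hk⟩ := h.mem (g := y.1.1) (congrArg (fun z => z.1.1) e)
      have c : k * kr = kr * k := h.inj (by rw [map_mul, map_mul, hk]; exact mX.mp y.1.2)
      have := y3 _ (Y.pow_mem y.2 2) (Subtype.ext (by
        rw [← pow_mul, coe_pow, ← hk, ← map_pow, cen_kr' k c, map_one, coe_one]))
      rcases cen_kr k c (h.inj (by rw [map_pow, hk, map_one]; exact congrArg Subtype.val this)) with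
        rfl | rfl
      · exact Or.inl (Subtype.ext (Subtype.ext (hk ▸ map_one Φ)))
      · exact Or.inr (Subtype.ext (Subtype.ext (hk ▸ h.tau)))
  refine ⟨(A.map Y.subtype).map (centralizer ({Φ kr} : Set G)).subtype, ?_, fun i a b c => ?_, ?_, ?_⟩
  · rintro _ ⟨_, ⟨x, hx, rfl⟩, rfl⟩
    exact congrArg (fun z => z.1.1) (a1 x hx)
  · exact ⟨_, ⟨_, a2 ⟨⟨i, mX.mpr c⟩, y2 _ (Subtype.ext a)⟩ (Subtype.ext (Subtype.ext a))
      fun e => b (congrArg (fun z => z.1.1) e), rfl⟩, rfl⟩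
  · rintro _ ⟨_, ⟨x, hx, rfl⟩, rfl⟩ e
    rw [a3 x hx (Subtype.ext (Subtype.ext e))]; rfl
  · rintro _ ⟨_, ⟨x, hx, rfl⟩, rfl⟩ e
    exact congrArg Subtype.val (y3 _ x.2 (Subtype.ext e))

theorem exists_s (h : JS t Φ) (hc : Nat.card G = 175560) {j : G} (j2 : j * j = 1) (j1 : j ≠ 1)
    (jr : j * Φ kr = Φ kr * j) :
    (t * j) ^ 5 = 1 ∧ (Φ ku * j = j * Φ ku ∨ Φ ku * t * j = j * (Φ ku * t)) := by
  have := Fact.mk Nat.prime_five
  obtain ⟨A, a1, a2, a3, a4⟩ := exists_A h hc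
  have t2 := h.t2
  have u2 : Φ ku * Φ ku = 1 := by rw [← map_mul, show ku * ku = 1 by decide, map_one]
  have ur : Φ ku * Φ kr * Φ ku = (Φ kr)⁻¹ := by
    rw [← map_mul, ← map_mul, ← map_inv]; exact congrArg Φ (by decide)
  have ut : Φ ku * t = t * Φ ku := (h.comm ku).symm
  have u1 : Φ ku ≠ 1 := ne_one h (by decide)
  have ut1 : Φ ku * t ≠ 1 := by rw [← h.tau, ← map_mul]; exact ne_one h (by decide)
  generalize Φ ku = u at *
  have ui : u⁻¹ = u := inv_eq_of_mul_eq_one_right u2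
  have ti : t⁻¹ = t := inv_eq_of_mul_eq_one_right t2
  have ut2 : u * t * (u * t) = 1 := by
    rw [show u * t * (u * t) = u * (t * u) * t by group, ← ut, ← mul_assoc, u2, one_mul, t2]
  have ab : ∀ x ∈ A, ∀ y ∈ A, x * y = y * x := fun x hx y hy => by
    have := a1 _ (A.mul_mem hx hy)
    rw [show t * (x * y) * t = (t * x * t) * (t⁻¹ * t⁻¹) * (t * y * t) by group, ti, t2, mul_one,
      a1 x hx, a1 y hy, ← mul_inv_rev, inv_inj] at this
    exact this.symm
  have five : ∀ x ∈ A, x ^ 30 = 1 → x ^ 5 = 1 := fun x hx e =>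
    a3 _ (A.pow_mem hx 5) (by
      rw [← pow_add]; exact a4 _ (A.pow_mem hx 10) (by rw [← pow_mul, e]))
  have k1 := a2 j j2 j1 jr
  have k2 : u * (t * j) * u ∈ A := by
    have := a2 (u * j * u) (by
      rw [show u * j * u * (u * j * u) = u * j * (u * u) * j * u by group, u2, mul_one,
        mul_assoc u, j2, mul_one, u2]) (fun e => j1 (by rwa [← ui, ← conj_eq_one_iff (a := u⁻¹),
          show u⁻¹ * (u⁻¹ * j * u⁻¹) * u⁻¹⁻¹ = (u * u)⁻¹ * j by group, u2, inv_one,
          one_mul] at e)) (by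
      have : j * (Φ kr)⁻¹ = (Φ kr)⁻¹ * j := (Commute.inv_right jr)
      rw [← ur] at this
      rw [show u * j * u * Φ kr = u * (j * (u * Φ kr * u)) * u⁻¹ by group, this, ui,
        show u * (u * Φ kr * u * j) * u = (u * u) * Φ kr * (u * j * u) by group, u2, one_mul])
    rwa [← mul_assoc, ← mul_assoc, ← ut, mul_assoc u] at this
  have jk : j = t * (t * j) := by rw [← mul_assoc, t2, one_mul]
  generalize t * j = κ at *
  subst jk
  have c := ab _ k1 _ k2
  have α1 := A.mul_mem k1 k2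
  have β1 := A.mul_mem k1 (A.inv_mem k2)
  have αu : κ * (u * κ * u) * u = u * (κ * (u * κ * u)) := by
    rw [mul_assoc κ, mul_assoc _ u u, u2, mul_one, c, ← mul_assoc u, ← mul_assoc u, ← mul_assoc u, u2,
      one_mul, mul_assoc]
  have βu : u * (κ * (u * κ * u)⁻¹) * u = (κ * (u * κ * u)⁻¹)⁻¹ := by
    rw [mul_inv_rev κ, inv_inv, mul_inv_rev, mul_inv_rev, ui,
      show u * (κ * (u * (κ⁻¹ * u))) * u = u * κ * u * κ⁻¹ * (u * u) by group, u2, mul_one]
  have βut : κ * (u * κ * u)⁻¹ * (u * t) = u * t * (κ * (u * κ * u)⁻¹) := by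
    have := a1 _ β1
    rw [← βu] at this
    generalize κ * (u * κ * u)⁻¹ = β at *
    rw [show β * (u * t) = u⁻¹ * (u * β * u) * t by group, ← this, ui,
      show u * (t * β * t) * t = u * t * β * (t * t) by group, t2, mul_one]
  have α5 := five _ α1 (pow_of_inv h u2 u1 αu)
  have β5 := five _ β1 (pow_of_inv h ut2 ut1 βut)
  refine ⟨a3 _ (A.pow_mem k1 5) ?_, ?_⟩
  · have e : κ * (u * κ * u) * (κ * (u * κ * u)⁻¹) = κ * κ := by
      rw [mul_assoc, ← mul_assoc (u * κ * u), ← c, mul_inv_cancel_right]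
    rw [← Commute.mul_pow rfl, ← e, Commute.mul_pow (ab _ α1 _ β1), α5, β5, one_mul]
  by_cases hα : κ * (u * κ * u) = 1
  · right
    have e1 : u * κ * u = κ⁻¹ := eq_inv_of_mul_eq_one_right hα
    rw [← a1 _ k1] at e1
    rw [show t * κ * (u * t) = t * u⁻¹ * (u * κ * u) * t by group, e1, ui, ← ut,
      show u * t * (t * κ * t) * t = u * t * (t * κ) * (t * t) by group, t2, mul_one]
  · left
    let B : Subgroup G := ⟨⟨⟨{x | x ∈ A ∧ x ^ 5 = 1}, fun {x y} hx hy => ⟨A.mul_mem hx.1 hy.1, by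
      rw [Commute.mul_pow (ab _ hx.1 _ hy.1), hx.2, hy.2, one_mul]⟩⟩, A.one_mem, one_pow 5⟩,
      fun hx => ⟨A.inv_mem hx.1, by rw [inv_pow, hx.2, inv_one]⟩⟩
    obtain ⟨n, hn⟩ := IsPGroup.iff_card.mp
      (show IsPGroup 5 B from fun x => ⟨1, Subtype.ext (by simpa using x.2.2)⟩)
    have d := B.card_subgroup_dvd_card
    rw [hn, hc] at d
    have n1 : n = 1 := by
      rcases n with _ | _ | n
      · exact absurd (Subgroup.mem_bot.mp (card_eq_one.mp hn ▸ (⟨α1, α5⟩ : _ ∈ B))) hα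
      · rfl
      · exact absurd ((pow_dvd_pow 5 (show 2 ≤ n + 1 + 1 by omega)).trans d) (by decide)
    rw [n1, pow_one] at hn
    obtain ⟨z, hz⟩ : κ * (u * κ * u)⁻¹ ∈ zpowers (κ * (u * κ * u)) :=
      (H8.zpowers_eq_of_mem_of_card_prime hn ⟨α1, α5⟩ hα).symm ▸ (⟨β1, β5⟩ : _ ∈ B)
    have e : κ * (u * κ * u)⁻¹ * u = u * (κ * (u * κ * u)⁻¹) := by
      rw [← hz]; exact Commute.zpow_left αu z
    rw [← e, mul_assoc _ u u, u2, mul_one, eq_inv_iff_mul_eq_one] at βu
    have := mul_inv_eq_one.mp (a3 _ β1 βu)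
    rw [← mul_assoc, ut, mul_assoc, mul_assoc]
    congr 1
    nth_rw 2 [this]
    rw [mul_assoc _ u u, u2, mul_one]

end J1
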