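import Cfsg.Agent.J1.Wk1
import Cfsg.Agent.Hz.Z5

/-! An involution whose weak closure in its centralizer is `Z₂ × A₅`: the normal closure. -/

set_option autoImplicit false
set_option linter.unusedSectionVars false

namespace J1

open JK Subgroup
open scoped commutatorElement

/-- no transvections -/
def NoTr (w : Fin 8 → Fin 8) : Prop := ∀ s, s ≠ 0 → w s = s → ∀ x, w x ^^^ x ≠ s

instance decNoTr (w : Fin 8 → Fin 8) : Decidable (NoTr w) := by unfold NoTr; infer_instance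

set_option synthInstance.maxSize 4000 in
theorem frob : ∀ p q s : Fin 8, lin p q s 2 = 2 → p ≠ 1 → (∀ n, (lin p q s)^[3] n = n) →
    NoTr (rr ∘ lin p q s ∘ rr ∘ lin p q s) →
    NoTr (rr ∘ lin p q s ∘ lin p q s ∘ rr ∘ lin p q s ∘ lin p q s) →
    (∀ v, (∀ e f : Fin 3, (lin p q s)^[e] 1 = rr^[f] 2 →
      (lin p q s)^[e] v ^^^ v ^^^ rr^[f] v = 0 ∨
        (lin p q s)^[e] v ^^^ v ^^^ rr^[f] v = rr^[f] 2) → v = 0 ∨ v = 1 ∨ v = 2 ∨ v = 3) ∧
    ∀ n, n ≠ 0 → ∃ a b c d : Fin 3, rr^[a] ((lin p q s)^[b] (rr^[c] ((lin p q s)^[d] 1))) = n := by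
  decide +kernel

variable {G : Type*} [Group G] [Fintype G] {t : G} {Φ : KK5 →* G}

theorem iter_act {x : G} {A : Fin 8 → Fin 8} (h : ∀ n, Φ (ph (A n)) = x * Φ (ph n) * x⁻¹) (i : ℕ)
    (n : Fin 8) : Φ (ph (A^[i] n)) = x ^ i * Φ (ph n) * (x ^ i)⁻¹ := by
  induction i with
  | zero => simp
  | succ i ih => rw [Function.iterate_succ_apply', h, ih, pow_succ']; group

theorem rr_act (n : Fin 8) : Φ (ph (rr n)) = Φ kr * Φ (ph n) * (Φ kr)⁻¹ := by
  rw [← ph_rr, map_mul, map_mul, map_inv]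

/-- the subgroup generated by two weak closures -/
def L0 (Φ : KK5 →* G) (m : G) : Subgroup G := Φ.range ⊔ ((MulAut.conj m).toMonoidHom.comp Φ).range

theorem mem_L0 (m : G) (k : KK5) : Φ k ∈ L0 Φ m := mem_sup_left ⟨k, rfl⟩
theorem mem_L0' (m : G) (k : KK5) : m * Φ k * m⁻¹ ∈ L0 Φ m := mem_sup_right ⟨k, rfl⟩

theorem mem_cen_L0 {m y : G} (h1 : ∀ k, y * Φ k = Φ k * y)
    (h2 : ∀ k, y * (m * Φ k * m⁻¹) = m * Φ k * m⁻¹ * y) : y ∈ centralizer (L0 Φ m : Set G) := by
  have : L0 Φ m ≤ centralizer {y} := sup_le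
    (by rintro _ ⟨k, rfl⟩; exact mem_centralizer_singleton_iff.mpr (h1 k).symm)
    (by rintro _ ⟨k, rfl⟩; exact mem_centralizer_singleton_iff.mpr (h2 k).symm)
  exact fun x hx => mem_centralizer_singleton_iff.mp (this hx)

namespace WC

variable (h : WC t Φ)
include h

theorem wcl {c d : G} (e : c * t * c⁻¹ = d * t * d⁻¹) (k : KK5) :
    ∃ l, c * Φ k * c⁻¹ = d * Φ l * d⁻¹ := by
  obtain ⟨ψ, a, -⟩ := h.exists_psi (n := d⁻¹ * c) (by
    rw [show d⁻¹ * c * t = d⁻¹ * (c * t * c⁻¹) * c by group, e]; group)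
  exact ⟨ψ k, by rw [a]; group⟩

theorem inj8 {m n : Fin 8} (e : Φ (ph m) = Φ (ph n)) : m = n := ph_inj m n (h.inj e)

theorem noTr {x : G} {w : Fin 8 → Fin 8} (hx : ∀ n, Φ (ph (w n)) = x * Φ (ph n) * x⁻¹) : NoTr w := by
  intro s s0 e y e'
  obtain ⟨m, hm, em⟩ := h.exists_norm s0
  refine h.move hm (n := x) (by rw [em, ← mul_inv_eq_iff_eq_mul, ← hx, e]) (mem_TT.mpr ⟨y, rfl⟩) ?_
  rw [em, ← hx, ← map_mul, ← ph_mul, e']

theorem struct {m : G} (hm : m ∈ normalizer (TT Φ : Set G)) (em : m * t * m⁻¹ = Φ ka) :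
    (∀ k, Φ k ∈ centralizer (L0 Φ m : Set G) → k = 1) ∧
    (∀ y, y * t = t * y → ∃ k, (Φ k)⁻¹ * y ∈ centralizer (L0 Φ m : Set G)) ∧
    ∀ n, n ≠ 0 → ∃ x ∈ L0 Φ m, x * t * x⁻¹ = Φ (ph n) := by
  have p1 : Φ (ph 1) = t := h.tau
  have rN : Φ kr ∈ normalizer (TT Φ : Set G) := mem_norm_TT (by decide)
  have hσ : m * Φ kr * m⁻¹ ∈ normalizer (TT Φ : Set G) := mul_mem (mul_mem hm rN) (inv_mem hm)
  have σL := mem_L0' (Φ := Φ) m kr
  obtain ⟨p, q, s, hA⟩ := h.act hσ
  have σt : m * Φ kr * m⁻¹ * t ≠ t * (m * Φ kr * m⁻¹) := fun e => by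
    obtain ⟨i, hi⟩ := mem_TT.mp ((mem_normalizer_iff.mp (inv_mem hm) _).mp (mem_TT.mpr ⟨1, p1⟩))
    have a : rr i = i := h.inj8 (by
      rw [rr_act, hi, show Φ kr * (m⁻¹ * t * m⁻¹⁻¹) * (Φ kr)⁻¹ =
        m⁻¹ * (m * Φ kr * m⁻¹ * t) * (m * (Φ kr)⁻¹) by group, e]
      group)
    rcases (show ∀ i, rr i = i → i = 0 ∨ i = 1 by decide) i a with rfl | rfl
    · rw [show ph 0 = 1 from rfl, map_one, eq_comm, conj_eq_one_iff] at hi
      exact h.t1 hi
    · rw [p1] at hi
      refine h.ne (show JK.tau ≠ ka by decide) ?_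
      rw [h.tau, ← em]
      conv_rhs => rw [hi]
      group
  generalize hσ' : m * Φ kr * m⁻¹ = σ at *
  obtain ⟨f1, f2⟩ := frob p q s (h.inj8 (by
      rw [hA, show ph 2 = ka from rfl, ← em, ← hσ', show m * Φ kr * m⁻¹ * (m * t * m⁻¹) *
        (m * Φ kr * m⁻¹)⁻¹ = m * (Φ kr * t) * (Φ kr)⁻¹ * m⁻¹ by group, h.comm]
      group))
    (fun e => σt (by
      have := hA 1
      rw [show lin p q s 1 = p from rfl, e, p1] at this
      exact (mul_inv_eq_iff_eq_mul.mp this.symm)))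
    (fun n => h.inj8 (by rw [iter_act hA, ← hσ', conj_pow, kr3]; simp))
    (h.noTr (x := Φ kr * σ * Φ kr * σ) fun n => by
      simp only [Function.comp_apply, rr_act, hA]; group)
    (h.noTr (x := Φ kr * σ * σ * Φ kr * σ * σ) fun n => by
      simp only [Function.comp_apply, rr_act, hA]; group)
  refine ⟨fun k hk => ?_, fun y hy => ?_, fun n hn => ?_⟩
  · rcases K_center k (h.inj (by rw [map_mul, map_mul]; exact (hk _ (mem_L0 m ka)).symm))
      (h.inj (by rw [map_mul, map_mul]; exact (hk _ (mem_L0 m kr)).symm)) with e | e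
    · exact e
    · exact absurd (h.tau ▸ e ▸ hk _ σL) σt
  · obtain ⟨k, hk⟩ := h.cen_eq hy
    suffices ∃ l, (Φ l)⁻¹ * ((Φ k)⁻¹ * y) ∈ centralizer (L0 Φ m : Set G) by
      obtain ⟨l, hl⟩ := this
      exact ⟨k * l, by simpa [mul_assoc] using hl⟩
    generalize (Φ k)⁻¹ * y = y at hk
    have yT : ∀ {c}, c ∈ normalizer (TT Φ : Set G) → ∀ x ∈ TT Φ, c⁻¹ * y * c * x = x * (c⁻¹ * y * c) :=
      fun {c} hc x hx => by
        obtain ⟨l, -, hl⟩ := (mem_normalizer_iff.mp hc x).mp hx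
        rw [show c⁻¹ * y * c * x = c⁻¹ * (y * (c * x * c⁻¹)) * c by group, ← hl, hk, hl]; group
    obtain ⟨l, hl⟩ := h.cen_eq (yT hm t (mem_TT.mpr ⟨1, p1⟩))
    obtain ⟨v, hv⟩ := mem_TT.mp ((mem_normalizer_iff.mp hm (Φ l)).mp ⟨l,
      mem_centralizer_singleton_iff.mpr (h.inj (by
        have a := hl ka
        have b := yT hm (Φ ka) (mem_TT.mpr ⟨2, rfl⟩)
        generalize m⁻¹ * y * m = y' at a b
        rw [mul_assoc, b, ← mul_assoc, ← mul_assoc, mul_left_inj] at a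
        rw [map_mul, map_mul]
        exact (Commute.inv_left_iff.mp a))), rfl⟩)
    have c1 : ∀ k, (Φ (ph v))⁻¹ * y * (m * Φ k * m⁻¹) = m * Φ k * m⁻¹ * ((Φ (ph v))⁻¹ * y) := fun k => by
      rw [hv, show (m * Φ l * m⁻¹)⁻¹ * y * (m * Φ k * m⁻¹) =
        m * ((Φ l)⁻¹ * (m⁻¹ * y * m) * Φ k) * m⁻¹ by group, hl]
      group
    have vi : (Φ (ph v))⁻¹ = Φ (ph v) :=
      inv_eq_of_mul_eq_one_right (by rw [← map_mul, ph_sq, map_one])
    rw [vi] at c1
    have cv := f1 v fun e f ef => by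
      -- both conjugations describe the weak closure of the same involution
      have ef' : σ ^ (e : ℕ) * t * (σ ^ (e : ℕ))⁻¹ =
          (Φ kr ^ (f : ℕ) * m) * t * (Φ kr ^ (f : ℕ) * m)⁻¹ := by
        rw [← p1, ← iter_act hA, ef, iter_act rr_act, p1, show ph 2 = ka from rfl, ← em]; group
      have s1 : Commute (Φ (ph v) * y) (σ ^ (e : ℕ)) :=
        Commute.pow_right (show Commute _ σ from hσ' ▸ c1 kr) _
      have s2 : Commute y (Φ kr ^ (f : ℕ)) := Commute.pow_right (hk kr) _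
      have a1 : ∀ k, Commute (Φ (ph ((lin p q s)^[e] v)) * (Φ (ph v) * y))
          (σ ^ (e : ℕ) * Φ k * (σ ^ (e : ℕ))⁻¹) := fun k => by
        have : Φ (ph ((lin p q s)^[e] v)) * (Φ (ph v) * y) = σ ^ (e : ℕ) * y * (σ ^ (e : ℕ))⁻¹ := by
          rw [iter_act hA, mul_assoc, (s1.inv_right).symm.eq, ← mul_assoc, ← mul_assoc, mul_assoc _ _
            (Φ (ph v)), ← map_mul, ph_sq, map_one, mul_one]
        rw [this]
        exact (show Commute y (Φ k) from hk k).map (MulAut.conj (σ ^ (e : ℕ)))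
      have a2 : ∀ k, Commute (Φ (ph (rr^[f] v)) * y)
          (σ ^ (e : ℕ) * Φ k * (σ ^ (e : ℕ))⁻¹) := fun k => by
        obtain ⟨l, hl⟩ := h.wcl ef' k
        have : Φ (ph (rr^[f] v)) * y =
            Φ kr ^ (f : ℕ) * (Φ (ph v) * y) * (Φ kr ^ (f : ℕ))⁻¹ := by
          rw [iter_act rr_act, mul_assoc, (s2.inv_right).symm.eq]; group
        rw [this, hl, show Φ kr ^ (f : ℕ) * m * Φ l * (Φ kr ^ (f : ℕ) * m)⁻¹ =
          Φ kr ^ (f : ℕ) * (m * Φ l * m⁻¹) * (Φ kr ^ (f : ℕ))⁻¹ by group]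
        exact (show Commute _ _ from c1 l).map (MulAut.conj (Φ kr ^ (f : ℕ)))
      have a3 : ∀ k, Commute (Φ (ph ((lin p q s)^[e] v ^^^ v ^^^ rr^[f] v)))
          (σ ^ (e : ℕ) * Φ k * (σ ^ (e : ℕ))⁻¹) := fun k => by
        have := (a1 k).mul_left (a2 k).inv_left
        rwa [show ∀ a b c : G, a * (b * y) * (c * y)⁻¹ = a * b * c⁻¹ from fun a b c => by group,
          inv_eq_of_mul_eq_one_right (show Φ (ph (rr^[f] v)) * Φ (ph (rr^[f] v)) = 1 by
            rw [← map_mul, ph_sq, map_one]), ← map_mul, ← map_mul, ← ph_mul, ← ph_mul] at this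
      generalize (lin p q s)^[e] v ^^^ v ^^^ rr^[f] v = i at a3
      obtain ⟨k, -, hk⟩ := (mem_normalizer_iff.mp (inv_mem (pow_mem hσ e)) _).mp (mem_TT.mpr ⟨i, rfl⟩)
      have a4 : ∀ l, k * l = l * k := fun l => h.inj (by
        rw [map_mul, map_mul, hk, show (σ ^ (e : ℕ))⁻¹ * Φ (ph i) * (σ ^ (e : ℕ))⁻¹⁻¹ * Φ l =
          (σ ^ (e : ℕ))⁻¹ * (Φ (ph i) * (σ ^ (e : ℕ) * Φ l * (σ ^ (e : ℕ))⁻¹)) * σ ^ (e : ℕ) by group,
          (a3 l).eq]
        group)
      rcases K_center k (a4 _) (a4 _) with rfl | rfl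
      · left
        rw [map_one, eq_comm, conj_eq_one_iff] at hk
        exact h.inj8 (hk.trans (map_one Φ).symm)
      · right
        refine h.inj8 ?_
        rw [← ef, iter_act hA, p1, ← h.tau, hk]; group
    have ca : ∀ k, Commute (Φ ka) (m * Φ k * m⁻¹) := fun k => by
      rw [← em]; exact (show Commute t (Φ k) from (h.comm k).symm).map (MulAut.conj m)
    have ct : ∀ k, Commute (t * y) (Φ k) := fun k =>
      (show Commute t (Φ k) from (h.comm k).symm).mul_left (hk k)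
    have ti : (Φ JK.tau)⁻¹ = t := by rw [h.tau]; exact inv_eq_of_mul_eq_one_right h.t2
    have a2 : Φ ka * Φ ka = 1 := by rw [← map_mul, show ka * ka = 1 by decide, map_one]
    rcases cv with rfl | rfl | rfl | rfl
    · exact ⟨1, by simpa using mem_cen_L0 hk (by simpa [show ph 0 = 1 from rfl] using c1)⟩
    · exact ⟨JK.tau, ti ▸ mem_cen_L0 ct (p1 ▸ c1)⟩
    · refine ⟨1, ?_⟩
      rw [map_one, inv_one, one_mul]
      refine mem_cen_L0 hk fun k => ?_
      have := (ca k).mul_left (c1 k)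
      rwa [show ph 2 = ka from rfl, ← mul_assoc, a2, one_mul] at this
    · refine ⟨JK.tau, ti ▸ mem_cen_L0 ct fun k => ?_⟩
      have := (ca k).mul_left (c1 k)
      rwa [show ph 3 = JK.tau * ka from rfl, map_mul, h.tau, ← mul_assoc, ← mul_assoc, h.comm,
        mul_assoc t, a2, mul_one] at this
  · obtain ⟨a, b, c, d, rfl⟩ := f2 n hn
    have rL := mem_L0 (Φ := Φ) m kr
    refine ⟨Φ kr ^ (a : ℕ) * σ ^ (b : ℕ) * Φ kr ^ (c : ℕ) * σ ^ (d : ℕ), mul_mem (mul_mem (mul_mem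
      (pow_mem rL _) (pow_mem σL _)) (pow_mem rL _)) (pow_mem σL _), ?_⟩
    rw [iter_act rr_act, iter_act hA, iter_act rr_act, iter_act hA, p1]; group

end WC

/-- a central extension of a group of Janko type -/
theorem js_of_central {H : Type*} [Group H] [Fintype H] {t : H} {Ψ : KK5 →* H}
    (inj : Function.Injective Ψ) (e0 : Ψ tau = t) (h1 : ∀ k, Ψ k ∈ center H → k = 1)
    (h2 : ∀ y, y * t = t * y → ∃ k, (Ψ k)⁻¹ * y ∈ center H)
    (h3 : ∀ d, IsConj t d → d * t = t * d → ∃ k, Ψ k = d)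
    (h4 : ∀ n, n ≠ 0 → IsConj t (Ψ (ph n))) (h5 : _root_.commutator H = ⊤) : JS t Ψ := by
  classical
  have t2 : t * t = 1 := by rw [← e0, ← map_mul, show tau * tau = 1 by decide, map_one]
  have t1 : t ≠ 1 := fun e => absurd (inj (e0.trans (e.trans (map_one Ψ).symm))) (by decide)
  have cm : ∀ k, Ψ k * t = t * Ψ k := fun k => by
    rw [← e0, ← map_mul, ← map_mul, mem_center_iff.mp tau_central k]
  have all : ∀ k : KK5, k * k = 1 → k ≠ 1 → IsConj t (Ψ k) := fun k a b => by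
    by_cases c : k = tau
    · rw [c, e0]
    obtain ⟨y, hy⟩ := K_inv k a b c
    refine IsConj.trans ?_ (isConj_iff.mpr ⟨Ψ y, by rw [← map_inv, ← map_mul, ← map_mul, hy]⟩)
    rcases o2_cases k.1 with e | e <;> rw [e]
    · exact h4 2 (by decide)
    · exact h4 3 (by decide)
  have odd : ¬ 2 ∣ (centralizer ({t} : Set H)).index := by
    have a := card_class_mod t2
    rw [← Nat.card_eq_of_bijective (fun k : {k : KK5 // k * k = 1 ∧ k ≠ 1} =>
      (⟨Ψ k, all k k.2.1 k.2.2, cm k⟩ : {d // IsConj t d ∧ d * t = t * d}))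
      ⟨fun a b e => Subtype.ext (inj (congrArg Subtype.val e)), fun d => by
        obtain ⟨k, hk⟩ := h3 d d.2.1 d.2.2
        exact ⟨⟨k, inj (by rw [map_mul, hk, sq_of_conj t2 d.2.1, map_one]), by
          rintro rfl
          exact t1 (isConj_one_left.mp ((hk.symm.trans (map_one Ψ)) ▸ d.2.1))⟩, Subtype.ext hk⟩⟩,
      Nat.card_eq_fintype_card, Fintype.card_subtype, K_c16.2.2] at a
    unfold Nat.ModEq at a
    omega
  have cT : Nat.card (TT Ψ) = 2 ^ 3 := by rw [card_map_of_injective inj, card_V8]; rfl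
  have TC : TT Ψ ≤ centralizer {t} := by
    rintro _ ⟨k, -, rfl⟩; exact mem_centralizer_singleton_iff.mpr (cm k)
  obtain ⟨P₁, hP₁⟩ := (IsPGroup.of_card (p := 2) ((Nat.card_congr
    (subgroupOfEquivOfLe TC).toEquiv).trans cT)).exists_le_sylow
  obtain ⟨n, hn⟩ := IsPGroup.iff_card.mp P₁.2
  obtain ⟨P, hP⟩ := exists_sylow (p := 2) (k := n) 
    (T := (P₁ : Subgroup (centralizer ({t} : Set H))).map (Subgroup.subtype _))
    (m := (P₁ : Subgroup (centralizer ({t} : Set H))).index * (centralizer ({t} : Set H)).index)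
    (by rw [← mul_assoc, ← hn, card_mul_index, card_mul_index])
    (fun e => (Nat.prime_two.dvd_mul.mp e).elim P₁.not_dvd_index odd)
    (by rw [card_map_of_injective (subtype_injective _), hn])
  have TP : TT Ψ ≤ (P : Subgroup H) := fun x hx => hP ▸ ⟨⟨x, TC hx⟩, hP₁ hx, rfl⟩
  have dec : ∀ x ∈ (P : Subgroup H), ∃ i, (Ψ (ph i))⁻¹ * x ∈ center H := by
    let Q : Subgroup KK5 := ((P : Subgroup H) ⊔ center H).comap Ψ
    have Q2 : IsPGroup 2 Q := fun k => by
      obtain ⟨x, hx, z, hz, e⟩ := mem_sup_of_normal_right.mp k.2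
      obtain ⟨j, hj⟩ := P.2 ⟨x, hx⟩
      refine ⟨j, Subtype.ext (h1 _ ?_)⟩
      rw [coe_pow, map_pow, ← e, Commute.mul_pow (mem_center_iff.mp hz x),
        show x ^ 2 ^ j = 1 from congrArg Subtype.val hj, one_mul]
      exact pow_mem hz _
    obtain ⟨R, hR⟩ := exists_sylow (p := 2) (k := 3) (m := 15) (T := V8) (by rw [card_K]; decide)
      (by decide) card_V8
    have e := R.is_maximal' Q2 (hR ▸ fun k hk => mem_sup_left (TP ⟨k, hk, rfl⟩))
    intro x hx
    obtain ⟨k, hk⟩ := h2 x (by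
      obtain ⟨y, -, rfl⟩ := hP ▸ hx
      exact mem_centralizer_singleton_iff.mp y.2)
    have : k ∈ Q := by
      have := mul_mem (mem_sup_left hx : x ∈ (P : Subgroup H) ⊔ center H) (inv_mem (mem_sup_right hk))
      rwa [show x * ((Ψ k)⁻¹ * x)⁻¹ = Ψ k by group] at this
    rw [e, hR] at this
    obtain ⟨i, rfl⟩ := ph_surj k (mem_centralizer_singleton_iff.mp this)
    exact ⟨i, hk⟩
  have ab : IsMulCommutative (P : Subgroup H) := ⟨⟨fun a b => Subtype.ext (by
    obtain ⟨i, hi⟩ := dec a a.2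
    obtain ⟨j, hj⟩ := dec b b.2
    have c : Commute (Ψ (ph i)) (Ψ (ph j)) := by
      rw [Commute, SemiconjBy, ← map_mul, ← map_mul, ← ph_mul, ← ph_mul, Fin.xor_comm]
    have := (c.mul_right (mem_center_iff.mp hj _)).mul_left
      (show Commute _ _ from (mem_center_iff.mp hi (Ψ (ph j) * ((Ψ (ph j))⁻¹ * b))).symm)
    simpa using this.eq)⟩⟩
  have one : ∀ u, u * u = 1 → u ≠ 1 → IsConj t u := fun u u2 u1 => by
    obtain ⟨z, hz⟩ := H8.exists_conj_mem_sylow P (y := u) (k := 1)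
      (orderOf_eq_prime (p := 2) (by rw [pow_two, u2]) u1)
    obtain ⟨i, hi⟩ := dec _ hz
    have := central_eq_one h5 P ab (mul_mem (inv_mem (TP (mem_TT.mpr ⟨i, rfl⟩))) hz)
      (mem_center_iff.mp hi)
    rw [inv_mul_eq_one] at this
    refine (h4 i ?_).trans (isConj_iff.mpr ⟨z, by rw [this]; group⟩)
    rintro rfl
    rw [show ph 0 = 1 from rfl, map_one] at this
    exact u1 (by rw [show u = z * (z⁻¹ * u * z) * z⁻¹ by group, ← this]; simp)
  have zo : ¬ 2 ∣ Nat.card (center H) := fun e => by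
    obtain ⟨i, hi, a, b⟩ := exists_inv_of_even e
    obtain ⟨c, hc⟩ := isConj_iff.mp (one i a b).symm
    rw [mem_center_iff.mp hi, mul_inv_cancel_right] at hc
    exact absurd (h1 tau (e0 ▸ hc ▸ hi)) (by decide)
  have := Fintype.ofFinite (H ⧸ center H)
  have js : JS (QuotientGroup.mk' (center H) t) ((QuotientGroup.mk' (center H)).comp Ψ) := by
    refine ⟨(injective_iff_map_eq_one _).mpr fun k hk => h1 k ((QuotientGroup.eq_one_iff _).mp hk),
      congrArg _ e0, ?_, fun u u2 u1 => ?_⟩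
    · ext y
      rw [mem_centralizer_singleton_iff]
      constructor
      · intro e
        obtain ⟨y, rfl⟩ := QuotientGroup.mk'_surjective _ y
        rw [← map_mul, ← map_mul, QuotientGroup.mk'_apply, QuotientGroup.mk'_apply,
          QuotientGroup.eq] at e
        have c : y * t * y⁻¹ = t * ((y * t)⁻¹ * (t * y))⁻¹ := by
          rw [mul_inv_eq_iff_eq_mul, mul_assoc, ← mem_center_iff.mp (inv_mem e) y]; group
        have c' := inv_mem e
        generalize ((y * t)⁻¹ * (t * y))⁻¹ = z at c c'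
        obtain ⟨k, hk⟩ := h3 _ (isConj_iff.mpr ⟨y, rfl⟩) (by
          rw [c, mul_assoc, mem_center_iff.mp c' t])
        have : tau⁻¹ * k = 1 := h1 _ (by rw [map_mul, map_inv, e0, hk, c]; simpa using c')
        rw [inv_mul_eq_one] at this
        rw [← this, e0, eq_mul_inv_iff_mul_eq] at hk
        obtain ⟨l, hl⟩ := h2 y hk.symm
        exact ⟨l, QuotientGroup.eq.mpr hl⟩
      · rintro ⟨k, rfl⟩
        rw [MonoidHom.comp_apply, ← map_mul, ← map_mul, cm]
    · obtain ⟨x, rfl⟩ := QuotientGroup.mk'_surjective _ u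
      obtain ⟨n, hn⟩ := Nat.odd_iff.mpr (Nat.two_dvd_ne_zero.mp zo)
      have a : x * x ∈ center H := (QuotientGroup.eq_one_iff _).mp (by simpa using u2)
      have b : QuotientGroup.mk' (center H) (x ^ Nat.card (center H)) =
          QuotientGroup.mk' (center H) x := by
        rw [map_pow, hn, pow_succ, pow_mul, pow_two, u2, one_pow, one_mul]
      rw [← b] at u1 ⊢
      exact (QuotientGroup.mk' (center H)).map_isConj (one _ (by
        rw [← Commute.mul_pow rfl]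
        exact congrArg Subtype.val (pow_card_eq_one' (x := (⟨_, a⟩ : center H))))
        fun e => u1 (by rw [e, map_one]))
  have zb : center H = ⊥ := by
    by_contra ne
    obtain ⟨p, hp, hd⟩ := Nat.exists_prime_and_dvd (mt card_eq_one.mp ne)
    have := Fact.mk hp
    obtain ⟨z, hz⟩ := exists_prime_orderOf_dvd_card' p hd
    obtain ⟨R, hR⟩ := (IsPGroup.of_card (p := p) (G := zpowers (z : H)) (n := 1)
      (by rw [Nat.card_zpowers, orderOf_coe, hz, pow_one])).exists_le_sylow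
    let f := ((QuotientGroup.mk' (center H)).comp (R : Subgroup H).subtype).rangeRestrict
    have cyc : IsCyclic ((QuotientGroup.mk' (center H)).comp (R : Subgroup H).subtype).range := by
      obtain ⟨k, hk⟩ := IsPGroup.iff_card.mp (R.2.of_surjective f
        (MonoidHom.rangeRestrict_surjective _))
      have d := card_subgroup_dvd_card
        ((QuotientGroup.mk' (center H)).comp (R : Subgroup H).subtype).range
      rw [card_of_JS js, hk] at d
      refine isCyclic_of_card_dvd_prime (p := p) ?_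
      rw [hk]
      rcases k with _ | _ | k
      · simp
      · simp
      · exfalso
        have p2 : p ≠ 2 := by rintro rfl; exact zo hd
        have d2 : p ^ 2 ∣ 2 ^ 3 * 21945 := (pow_dvd_pow p (by omega)).trans d
        have d3 := Nat.Coprime.dvd_of_dvd_mul_left (Nat.Coprime.pow 2 3
          ((Nat.coprime_primes hp Nat.prime_two).mpr p2)) d2
        have : Squarefree 21945 := by decide +kernel
        exact hp.ne_one (Nat.isUnit_iff.mp (this p (pow_two p ▸ d3)))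
    have := central_eq_one h5 R (f.isMulCommutative_of_isCyclic_of_ker_le_center fun x hx =>
      mem_center_iff.mpr fun y => Subtype.ext (mem_center_iff.mp ((QuotientGroup.eq_one_iff _).mp
        (congrArg Subtype.val hx)) _)) (hR (mem_zpowers _)) (mem_center_iff.mp z.2)
    rw [← orderOf_coe, this, orderOf_one] at hz
    exact hp.ne_one hz.symm
  refine ⟨inj, e0, ?_, one⟩
  ext y
  rw [mem_centralizer_singleton_iff]
  constructor
  · intro e
    obtain ⟨k, hk⟩ := h2 y e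
    rw [zb, mem_bot, inv_mul_eq_one] at hk
    exact ⟨k, hk⟩
  · rintro ⟨k, rfl⟩
    exact cm k

end J1
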