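import Cfsg.Agent.J1.Wk2

/-! An involution whose weak closure in its centralizer is `Z₂ × A₅`: conclusion. -/

set_option autoImplicit false
set_option linter.unusedSectionVars false

namespace J1

open JK Subgroup Cfsg
open scoped commutatorElement

theorem dconj {H : Type*} [Group H] {x y : H} (hx : x * x = 1) (hy : y * y = 1) (n : ℕ) :
    IsConj x ((y * x) ^ n * x) ∨ IsConj y ((y * x) ^ n * x) := by
  have xi := inv_eq_of_mul_eq_one_right hx
  have yi := inv_eq_of_mul_eq_one_right hy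
  have a : ∀ k : ℕ, x * ((y * x) ^ k)⁻¹ = (y * x) ^ k * x := fun k => by
    rw [← inv_pow, mul_inv_rev, xi, yi, ← mul_inv_eq_iff_eq_mul, ← conj_pow, xi, ← mul_assoc, hx,
      one_mul]
  have b : ∀ k : ℕ, y * ((y * x) ^ k)⁻¹ = (y * x) ^ k * y := fun k => by
    rw [← inv_pow, mul_inv_rev, xi, yi, ← mul_inv_eq_iff_eq_mul, ← conj_pow, mul_assoc,
      mul_inv_cancel_right]
  rcases Nat.even_or_odd' n with ⟨k, rfl | rfl⟩
  · exact Or.inl (isConj_iff.mpr ⟨(y * x) ^ k, by rw [mul_assoc, a, two_mul, pow_add, mul_assoc]⟩)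
  · refine Or.inr (isConj_iff.mpr ⟨(y * x) ^ k, ?_⟩)
    rw [mul_assoc, b, pow_succ, two_mul, pow_add, mul_assoc, mul_assoc, mul_assoc, hx, mul_one]

theorem inv_swap {H : Type*} [Group H] {l a : H} (h : l * (l⁻¹ * a) = l⁻¹ * a * l) :
    l⁻¹⁻¹ * a⁻¹ = (l⁻¹ * a)⁻¹ := by
  rw [mul_inv_cancel_left] at h
  conv_lhs => rw [h]
  group

theorem swap_conj {H : Type*} [Group H] {l t t' e f u : H} (ee : e * e = 1) (ff : f * f = 1)
    (e2 : e * t' * e = t) (f2 : f * t' * f = u)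
    (h : t * (l⁻¹ * (f * e)) = l⁻¹ * (f * e) * t) : l * t * l⁻¹ = u := by
  rw [show l * t * l⁻¹ = l * (t * (l⁻¹ * (f * e))) * (f * e)⁻¹ by group, h, ← f2, ← e2,
    mul_inv_rev, inv_eq_of_mul_eq_one_right ee, inv_eq_of_mul_eq_one_right ff,
    show l * (l⁻¹ * (f * e) * (e * t' * e)) * (e * f) = f * (e * e) * t' * (e * e) * f by group, ee]
  group

variable {G : Type*} [Group G] [Fintype G] {t : G} {Φ : KK5 →* G}

namespace WC

variable (h : WC t Φ)
include h

theorem di {x y : G} (hx : IsConj t x) (hy : IsConj t y) (ho : ¬ Odd (orderOf (y * x))) :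
    ∃ z ∈ zpowers (y * x), IsConj t z ∧ z * x = x * z ∧ z * y = y * z := by
  have x2 := sq_of_conj h.t2 hx
  have y2 := sq_of_conj h.t2 hy
  obtain ⟨m, hm⟩ := Nat.not_odd_iff_even.mp ho
  have z2 : (y * x) ^ m * (y * x) ^ m = 1 := by rw [← pow_add, ← hm, pow_orderOf_eq_one]
  have z1 : (y * x) ^ m ≠ 1 := by
    have := orderOf_pos (y * x)
    exact pow_ne_one_of_lt_orderOf (by omega) (by omega)
  have d : IsConj t ((y * x) ^ m * x) := (dconj x2 y2 m).elim hx.trans hy.trans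
  have d2 := sq_of_conj h.t2 d
  have c : (y * x) ^ m * x = x * (y * x) ^ m := by
    rw [← inv_eq_of_mul_eq_one_right d2, mul_inv_rev, inv_eq_of_mul_eq_one_right x2,
      inv_eq_of_mul_eq_one_right z2]
  refine ⟨_, pow_mem (mem_zpowers _) m, ?_, c, ?_⟩
  · have := h.cp d hx (by rw [← mul_assoc, ← c]) fun e => z1 (by simpa using e)
    rwa [mul_assoc, x2, mul_one] at this
  · have := ((Commute.refl (y * x)).pow_left m).mul_right (show Commute _ x from c)
    rwa [mul_assoc, x2, mul_one] at this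

theorem iso : Spor.IsoJ1 (normalClosure ({t} : Set G)) := by
  obtain ⟨m, hm, em⟩ := h.exists_norm (n := 2) (by decide)
  obtain ⟨s1, s2, s3⟩ := h.struct hm em
  set L := L0 Φ m with hL
  set U := centralizer (L : Set G)
  have mΦ : ∀ k, Φ k ∈ L := mem_L0 m
  have mt : t ∈ L := h.tau ▸ mΦ JK.tau
  have := Fintype.ofFinite L
  have h4 : ∀ n, n ≠ 0 → IsConj (⟨t, mt⟩ : L) (Φ.codRestrict L mΦ (ph n)) := fun n hn => by
    obtain ⟨x, hx, e⟩ := s3 n hn
    exact isConj_iff.mpr ⟨⟨x, hx⟩, Subtype.ext e⟩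
  have js : JS (⟨t, mt⟩ : L) (Φ.codRestrict L mΦ) := by
    refine js_of_central (fun a b e => h.inj (congrArg Subtype.val e)) (Subtype.ext h.tau)
      (fun k hk => s1 k fun x hx => congrArg Subtype.val (mem_center_iff.mp hk ⟨x, hx⟩))
      (fun y e => ?_) (fun d d1 d2 => ?_) h4 ?_
    · obtain ⟨k, hk⟩ := s2 y (congrArg Subtype.val e)
      exact ⟨k, mem_center_iff.mpr fun x => Subtype.ext (hk x x.2)⟩
    · obtain ⟨k, hk⟩ := h.mem d (L.subtype.map_isConj d1) (congrArg Subtype.val d2)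
      exact ⟨k, Subtype.ext hk⟩
    · have hN : (_root_.commutator L).Normal := inferInstance
      have a : (⟨t, mt⟩ : L) ∈ _root_.commutator L := by
        obtain ⟨x, e⟩ := isConj_iff.mp (h4 2 (by decide))
        obtain ⟨z, hz⟩ := isConj_iff.mp (h4 3 (by decide)).symm
        have : Φ.codRestrict L mΦ (ph 3) = ⁅(⟨t, mt⟩ : L), x⁆ := by
          rw [commutatorElement_def, mul_assoc, mul_assoc, ← mul_assoc x,
            show (⟨t, mt⟩ : L)⁻¹ = ⟨t, mt⟩ from inv_eq_of_mul_eq_one_right (Subtype.ext h.t2), e]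
          exact Subtype.ext (by rw [show ph 3 = JK.tau * ph 2 from rfl, map_mul]; simp [h.tau])
        rw [← hz, this]
        exact hN.conj_mem _ (commutator_mem_commutator (mem_top _) (mem_top _)) z
      have b : ∀ n, Φ.codRestrict L mΦ (ph n) ∈ _root_.commutator L := fun n => by
        by_cases e : n = 0
        · rw [e, show ph 0 = 1 from rfl, map_one]; exact one_mem _
        · obtain ⟨z, hz⟩ := isConj_iff.mp (h4 n e)
          exact hz ▸ hN.conj_mem _ a z
      have c : ∀ k, Φ.codRestrict L mΦ k ∈ _root_.commutator L := fun k => by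
        have s : ∀ k : KK5, k * k = 1 → k ≠ 1 → k.1 = 1 →
            Φ.codRestrict L mΦ k ∈ _root_.commutator L := fun k e1 e2 e3 => by
          obtain ⟨y, hy⟩ := K_inv k e1 e2 (by rintro rfl; exact o2_ne e3)
          rw [← hy, e3, map_mul, map_mul, map_inv]
          exact hN.conj_mem _ (b 2) _
        have : (_root_.commutator L).comap (Φ.codRestrict L mΦ) = ⊤ := K_gen _ (b 1) (b 2)
          (by rw [show kr = ku * (ku * kr) by decide]
              exact mul_mem (s _ (by decide) (by decide) rfl) (s _ (by decide) (by decide) rfl))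
          (s _ (by decide) (by decide) rfl)
        exact (this ▸ mem_top k : k ∈ (_root_.commutator L).comap (Φ.codRestrict L mΦ))
      have : L ≤ (_root_.commutator L).map L.subtype := by
        refine sup_le ?_ ?_
        · rintro _ ⟨k, rfl⟩; exact ⟨_, c k, rfl⟩
        · rintro _ ⟨k, rfl⟩
          obtain ⟨x, hx, e⟩ := s3 2 (by decide)
          obtain ⟨l, hl⟩ := h.wcl (em.trans e.symm) k
          exact ⟨_, hN.conj_mem _ (c l) ⟨x, hx⟩, hl.symm⟩
      refine eq_top_iff.mpr fun y _ => ?_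
      obtain ⟨z, hz, e⟩ := this y.2
      exact (show z = y from Subtype.ext e) ▸ hz
  have LU : ∀ x ∈ L, x ∈ U → x = 1 := fun x a b => by
    obtain ⟨k, hk⟩ := js.mem (g := ⟨x, a⟩) (Subtype.ext (b t mt).symm)
    have hk : Φ k = x := congrArg Subtype.val hk
    rw [← hk, s1 k (hk ▸ b), map_one]
  have one : ∀ d ∈ L, d * d = 1 → d ≠ 1 → ∃ l ∈ L, l * t * l⁻¹ = d := fun d a b c => by
    obtain ⟨l, hl⟩ := isConj_iff.mp (js.one ⟨d, a⟩ (Subtype.ext b) fun e => c (congrArg Subtype.val e))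
    exact ⟨l, l.2, congrArg Subtype.val hl⟩
  let G0 : Subgroup G := ⟨⟨⟨{g | ∃ l ∈ L, l⁻¹ * g ∈ U}, by
      rintro a b ⟨l, hl, hu⟩ ⟨l', hl', hu'⟩
      refine ⟨l * l', mul_mem hl hl', ?_⟩
      rw [show (l * l')⁻¹ * (a * b) = l'⁻¹ * (l⁻¹ * a) * b by group, hu _ (inv_mem hl'), mul_assoc]
      exact mul_mem hu hu'⟩, 1, one_mem _, by simp⟩, by
      rintro a ⟨l, hl, hu⟩
      refine ⟨l⁻¹, inv_mem hl, ?_⟩
      rw [inv_swap (hu l hl)]; exact inv_mem hu⟩
  have mG : ∀ {g}, g ∈ G0 ↔ ∃ l ∈ L, l⁻¹ * g ∈ U := Iff.rfl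
  have LG : ∀ l ∈ L, l ∈ G0 := fun l hl => ⟨l, hl, by simp⟩
  have CG : ∀ y, y * t = t * y → y ∈ G0 := fun y hy => (s2 y hy).elim fun k hk => ⟨_, mΦ k, hk⟩
  have DG : ∀ d, IsConj t d → d ∈ G0 → d ∈ L := by
    rintro d hd ⟨l, hl, hu⟩
    have c : Commute l (l⁻¹ * d) := hu l hl
    have e : l * (l⁻¹ * d) = d := by group
    have l2 : l * l = 1 := LU _ (mul_mem hl hl) (by
      have := sq_of_conj h.t2 hd
      rw [← e, ← pow_two, c.mul_pow, mul_eq_one_iff_eq_inv, pow_two] at this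
      exact this ▸ inv_mem (pow_mem hu 2))
    by_cases l1 : l = 1
    · rw [l1, inv_one, one_mul] at hu
      obtain ⟨k, rfl⟩ := h.mem d hd (hu t mt).symm
      exact mΦ k
    · obtain ⟨x, hx, rfl⟩ := one l hl l2 l1
      obtain ⟨k, hk⟩ := h.mem (x⁻¹ * d * x) (hd.trans (isConj_iff.mpr ⟨x⁻¹, by group⟩)) (by
        have : Commute (x * t * x⁻¹) d := e ▸ (Commute.refl _).mul_right c
        rw [show x⁻¹ * d * x * t = x⁻¹ * (d * (x * t * x⁻¹)) * x by group, ← this.eq]; group)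
      rw [show d = x * (x⁻¹ * d * x) * x⁻¹ by group, ← hk]
      exact mul_mem (mul_mem hx (mΦ k)) (inv_mem hx)
  have U1 : ∀ x, x * t * x⁻¹ ∈ G0 → x ∈ G0 := fun x hx => by
    have d := isConj_iff.mpr ⟨x, (rfl : x * t * x⁻¹ = _)⟩
    obtain ⟨l, hl, e⟩ := one _ (DG _ d hx) (sq_of_conj h.t2 d) fun e => h.t1 (conj_eq_one_iff.mp e)
    have := mul_mem (LG l hl) (CG (l⁻¹ * x) (by
      rw [show l⁻¹ * x * t = l⁻¹ * (x * t * x⁻¹) * x by group, ← e]; group))
    rwa [mul_inv_cancel_left] at this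
  have uniq : ∀ d, IsConj t d → ∀ a b : G ⧸ G0, d • a = a → d • b = b → a = b := by
    intro d hd
    obtain ⟨c, rfl⟩ := isConj_iff.mp hd
    have : ∀ a : G ⧸ G0, (c * t * c⁻¹) • a = a → a = c := fun a e => by
      induction a using QuotientGroup.induction_on with | H y => ?_
      rw [H8.smul_mk_eq_iff] at e
      exact QuotientGroup.eq.mpr (U1 _ (by simpa [mul_assoc] using e))
    exact fun a b e e' => (this a e).trans (this b e').symm
  have top : ∀ c, c ∈ G0 := by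
    by_contra! hc
    obtain ⟨c, hc⟩ := hc
    have fx : ∀ {x : G}, x • ((1 : G) : G ⧸ G0) = (1 : G) ↔ x ∈ G0 := by
      intro x; rw [H8.smul_mk_eq_iff]; simp
    have ne : ((1 : G) : G ⧸ G0) ≠ c := fun e => hc (by simpa using QuotientGroup.eq.mp e)
    have ht' := isConj_iff.mpr ⟨c, (rfl : c * t * c⁻¹ = _)⟩
    have fb : (c * t * c⁻¹) • (c : G ⧸ G0) = c := by
      rw [H8.smul_mk_eq_iff]; simpa [mul_assoc] using LG t mt
    generalize ((1 : G) : G ⧸ G0) = α at *
    generalize (c : G ⧸ G0) = β at *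
    generalize c * t * c⁻¹ = t' at *
    have cf : ∀ {d z : G} {a : G ⧸ G0}, IsConj t d → d • a = a → z * d = d * z → z • a = a :=
      fun {d z a} hd e c => uniq d hd _ _ (by rw [← mul_smul, ← c, mul_smul, e]) e
    have sw : ∀ d, IsConj t d → d ∈ L → ∃ e, IsConj t e ∧ e * t' * e = d ∧ e • α = β ∧ e • β = α := by
      intro d hd hl
      have fa := fx.mpr (LG d hl)
      obtain ⟨n, e2, e3, -⟩ := BS.exists_swap (sq_of_conj h.t2 hd) (sq_of_conj h.t2 ht') (by
        by_contra o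
        obtain ⟨z, -, z1, z2, z3⟩ := h.di hd ht' o
        exact ne (uniq z z1 _ _ (cf hd fa z2) (cf ht' fb z3)))
      have e1 : IsConj t ((t' * d) ^ n * d) :=
        (dconj (sq_of_conj h.t2 hd) (sq_of_conj h.t2 ht') n).elim hd.trans ht'.trans
      generalize (t' * d) ^ n * d = e at *
      have ab : e • α = β := uniq t' ht' _ _ (by
        rw [← e3, mul_smul, mul_smul, smul_smul e e, e2, one_smul, fa]) fb
      exact ⟨e, e1, by rw [← e3, ← mul_assoc, ← mul_assoc, e2, one_mul, mul_assoc, e2, mul_one], ab,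
        by rw [← ab, smul_smul, e2, one_smul]⟩
    let M : Subgroup G := ⟨⟨⟨{x | x • α = α ∧ x • β = β ∨ x • α = β ∧ x • β = α}, by
      rintro a b (⟨a1, a2⟩ | ⟨a1, a2⟩) (⟨b1, b2⟩ | ⟨b1, b2⟩) <;>
        simp [mul_smul, a1, a2, b1, b2]⟩, Or.inl ⟨one_smul _ _, one_smul _ _⟩⟩, by
      rintro a (⟨a1, a2⟩ | ⟨a1, a2⟩)
      · exact Or.inl ⟨inv_smul_eq_iff.mpr a1.symm, inv_smul_eq_iff.mpr a2.symm⟩
      · exact Or.inr ⟨inv_smul_eq_iff.mpr a2.symm, inv_smul_eq_iff.mpr a1.symm⟩⟩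
    obtain ⟨e, e1, e2, e3, e4⟩ := sw t (IsConj.refl t) mt
    have ee := sq_of_conj h.t2 e1
    have eM : e ∈ M := Or.inr ⟨e3, e4⟩
    have zs := fun {g} (hg : g ∈ M) => Hz.zstar_amb eM
      ⟨fun z => h.t1 (isConj_one_left.mp (z ▸ e1)), ee⟩ (fun g hg c => by
        by_contra n
        have a := h.cp e1 (e1.trans (isConj_iff.mpr ⟨g, rfl⟩)) c.symm (Ne.symm n)
        have b : (g * e * g⁻¹) • α = β ∧ (g * e * g⁻¹) • β = α := by
          rcases hg with ⟨a1, a2⟩ | ⟨a1, a2⟩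
          · rw [mul_smul, mul_smul, mul_smul, mul_smul, inv_smul_eq_iff.mpr a1.symm,
              inv_smul_eq_iff.mpr a2.symm, e3, e4, a1, a2]; exact ⟨rfl, rfl⟩
          · rw [mul_smul, mul_smul, mul_smul, mul_smul, inv_smul_eq_iff.mpr a1.symm,
              inv_smul_eq_iff.mpr a2.symm, e3, e4, a1, a2]; exact ⟨rfl, rfl⟩
        exact ne (uniq _ a _ _ (by rw [mul_smul, b.1, e4]) (by rw [mul_smul, b.2, e3]))) hg
    have OG : ∀ o ∈ BS.Od M, o ∈ G0 := fun o ho => by
      obtain ⟨n, hn⟩ := BS.odd_Od M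
      have a : o ^ Nat.card (BS.Od M) = 1 :=
        congrArg Subtype.val (pow_card_eq_one' (x := (⟨o, ho⟩ : BS.Od M)))
      have b : o * o ∈ G0 := fx.mp (by
        rcases FT.piCoreOf_le _ _ ho with ⟨a1, a2⟩ | ⟨a1, a2⟩ <;> simp [mul_smul, a1, a2])
      rw [hn, pow_succ, pow_mul, pow_two, mul_eq_one_iff_inv_eq] at a
      exact a ▸ inv_mem (pow_mem b n)
    let X : Subgroup L := ⟨⟨⟨{l | ∃ o ∈ BS.Od M, (l : G)⁻¹ * o ∈ U}, by
      rintro l l' ⟨a, ha, hu⟩ ⟨b, hb, hu'⟩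
      refine ⟨a * b, mul_mem ha hb, ?_⟩
      rw [coe_mul, show ((l : G) * l')⁻¹ * (a * b) = (l' : G)⁻¹ * ((l : G)⁻¹ * a) * b by group,
        hu _ (inv_mem l'.2), mul_assoc]
      exact mul_mem hu hu'⟩, 1, one_mem _, by simp⟩, by
      rintro l ⟨a, ha, hu⟩
      refine ⟨a⁻¹, inv_mem ha, ?_⟩
      rw [coe_inv, inv_swap (hu l l.2)]; exact inv_mem hu⟩
    refine not_trans js (X := X) ?_ fun u u2 u1 => ?_
    · by_contra o
      obtain ⟨i, ⟨a, ha, hu⟩, i2, i1⟩ := exists_inv_of_even (even_iff_two_dvd.mp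
        (Nat.not_odd_iff_even.mp o))
      obtain ⟨n, hn⟩ := BS.odd_Od M
      have b : a ^ Nat.card (BS.Od M) = 1 :=
        congrArg Subtype.val (pow_card_eq_one' (x := (⟨a, ha⟩ : BS.Od M)))
      have c : Commute (i : G) ((i : G)⁻¹ * a) := hu i i.2
      rw [show a = i * ((i : G)⁻¹ * a) by group, c.mul_pow, mul_eq_one_iff_eq_inv] at b
      have d : (i : G) ^ Nat.card (BS.Od M) = i := by
        rw [hn, pow_succ, pow_mul, pow_two, show (i : G) * i = 1 from congrArg Subtype.val i2, one_pow,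
          one_mul]
      exact i1 (Subtype.ext (LU _ i.2 (by rw [← d, b]; exact inv_mem (pow_mem hu _))))
    · obtain ⟨f, f1, f2, f3, f4⟩ := sw u (L.subtype.map_isConj (js.one u u2 u1)) u.2
      have ff := sq_of_conj h.t2 f1
      have fM : f ∈ M := Or.inr ⟨f3, f4⟩
      obtain ⟨n, -, -, e5⟩ := BS.exists_swap ee ff (by
        by_contra o
        obtain ⟨z, ⟨k, rfl⟩, z1, -, -⟩ := h.di e1 f1 o
        have a : f * e ∈ MulAction.stabilizer G α := by
          rw [MulAction.mem_stabilizer_iff, mul_smul, e3, f4]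
        have b : f * e ∈ MulAction.stabilizer G β := by
          rw [MulAction.mem_stabilizer_iff, mul_smul, e4, f3]
        exact ne (uniq _ z1 _ _ (zpow_mem a k) (zpow_mem b k)))
      have o := zs (pow_mem (mul_mem fM eM) n)
      rw [e5] at o
      obtain ⟨l, hl, hu⟩ := OG _ o
      exact ⟨⟨l, hl⟩, ⟨_, o, hu⟩, Subtype.ext (swap_conj ee ff e2 f2 (hu t mt))⟩
  have nL : L.Normal := ⟨fun x hx g => by
    obtain ⟨l, hl, hu⟩ := top g
    rw [show g * x * g⁻¹ = l * ((l⁻¹ * g) * x) * g⁻¹ by group, ← hu x hx,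
      show l * (x * (l⁻¹ * g)) * g⁻¹ = l * x * l⁻¹ by group]
    exact mul_mem (mul_mem hl hx) (inv_mem hl)⟩
  have : normalClosure ({t} : Set G) = L := by
    refine le_antisymm (normalClosure_le_normal (by simpa using mt)) ?_
    have a := h.gen (normalClosure ({t} : Set G)) fun d hd _ => by
      obtain ⟨c, e⟩ := isConj_iff.mp hd
      exact e ▸ normalClosure_normal.conj_mem t (subset_normalClosure (Set.mem_singleton t)) c
    refine sup_le ?_ ?_
    · rintro _ ⟨k, rfl⟩; exact a k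
    · rintro _ ⟨k, rfl⟩; exact normalClosure_normal.conj_mem _ (a k) m
  rw [this]
  exact iso_of_JS' js

end WC

end J1
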